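import Cfsg.Agent.Lib.SplitBNRankOne.Fixed
import Mathlib.GroupTheory.PGroup
/-!
# The second centre

`Hyp.ww` : the elements of `U` central modulo `ax a`.  If `cc a b` contains an involution it meets
`cc a b` trivially and has order `q²`, and that involution has centraliser `ax a` in it.
-/

set_option autoImplicit false
set_option linter.style.haveILetI false

namespace Cfsg.Agent.SplitBNRankOne

open MulAction Cfsg.Agent

universe u v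

namespace Hyp

variable {G : Type u} {Ω : Type v} [Group G] [MulAction G Ω] {a b : Ω} {U H : Subgroup G}

/-- The elements of `U` central modulo `ax a`. -/
def ww (h : Hyp G Ω a b U H) : Subgroup G where
  carrier := {w | w ∈ U ∧ ∀ v ∈ U, w * v * w⁻¹ * v⁻¹ ∈ h.ax a}
  one_mem' := ⟨one_mem _, fun v _ => by simp⟩
  mul_mem' := fun {w w'} hw hw' => ⟨mul_mem hw.1 hw'.1, fun v hv => by
    have hc : w * (w' * v * w'⁻¹ * v⁻¹) = w' * v * w'⁻¹ * v⁻¹ * w :=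
      ((hw'.2 v hv).2.2 w (h.at_a.symm ▸ hw.1)).symm
    have e := mul_mem (hw'.2 v hv) (hw.2 v hv)
    rwa [show w' * v * w'⁻¹ * v⁻¹ * (w * v * w⁻¹ * v⁻¹) = w' * v * w'⁻¹ * v⁻¹ * w * (v * w⁻¹ * v⁻¹) by group,
      ← hc, show w * (w' * v * w'⁻¹ * v⁻¹) * (v * w⁻¹ * v⁻¹) = w * w' * v * (w * w')⁻¹ * v⁻¹ by group] at e⟩
  inv_mem' := fun {w} hw => ⟨inv_mem hw.1, fun v hv => by
    have hm := inv_mem (hw.2 v hv)
    have hc := hm.2.2 w (h.at_a.symm ▸ hw.1)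
    rwa [show w⁻¹ * v * w⁻¹⁻¹ * v⁻¹ = w⁻¹ * ((w * v * w⁻¹ * v⁻¹)⁻¹ * w) by group, hc, inv_mul_cancel_left]⟩

variable (h : Hyp G Ω a b U H)
include h

theorem ww_le_U : h.ww ≤ U := fun _ hw => hw.1

theorem ax_le_ww : h.ax a ≤ h.ww := fun z hz => ⟨h.ax_le_U hz, fun v hv => by
  rw [h.ax_comm hz hv, mul_inv_cancel_right, mul_inv_cancel]; exact one_mem _⟩

theorem ww_conj {g w : G} (hg : g • a = a) (hw : w ∈ h.ww) : g * w * g⁻¹ ∈ h.ww := by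
  refine ⟨h.U_norm g hg w hw.1, fun v hv => ?_⟩
  have hga : g⁻¹ • a = a := inv_smul_eq_iff.2 hg.symm
  have hv' : g⁻¹ * v * g ∈ U := by simpa using h.U_norm g⁻¹ hga v hv
  have := h.ax_conj hg (hw.2 _ hv')
  rwa [show g * (w * (g⁻¹ * v * g) * w⁻¹ * (g⁻¹ * v * g)⁻¹) * g⁻¹ = g * w * g⁻¹ * v * (g * w * g⁻¹)⁻¹ * v⁻¹ by
    group] at this

/-- The commutator with an element of `U`, on `ww`. -/
def cmW {u : G} (hu : u ∈ U) : h.ww →* h.ax a where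
  toFun w := ⟨w.1 * u * w.1⁻¹ * u⁻¹, w.2.2 u hu⟩
  map_one' := Subtype.ext (by simp)
  map_mul' w w' := Subtype.ext (by
    show w.1 * w'.1 * u * (w.1 * w'.1)⁻¹ * u⁻¹ = (w.1 * u * w.1⁻¹ * u⁻¹) * (w'.1 * u * w'.1⁻¹ * u⁻¹)
    have hc := h.ax_comm (w'.2.2 u hu) w.2.1
    calc w.1 * w'.1 * u * (w.1 * w'.1)⁻¹ * u⁻¹
        = w.1 * (w'.1 * u * w'.1⁻¹ * u⁻¹) * (u * w.1⁻¹ * u⁻¹) := by group
      _ = (w'.1 * u * w'.1⁻¹ * u⁻¹) * w.1 * (u * w.1⁻¹ * u⁻¹) := by rw [hc]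
      _ = (w'.1 * u * w'.1⁻¹ * u⁻¹) * (w.1 * u * w.1⁻¹ * u⁻¹) := by group
      _ = _ := h.ax_comm (w'.2.2 u hu) (h.ax_le_U (w.2.2 u hu)))

variable [FaithfulSMul G Ω] [Finite G] [IsSimpleGroup G] (hU2 : IsPGroup 2 U)
include hU2

theorem one_lt_ax : 1 < Nat.card (h.ax a) := by
  obtain ⟨z, hz, hz1⟩ := h.ax_ne_bot
  haveI : Nontrivial (h.ax a) := ⟨⟨z, hz⟩, 1, fun e => hz1 (congrArg Subtype.val e)⟩
  exact Finite.one_lt_card

theorem ax_inf_cc : h.ax a ⊓ h.cc a b = ⊥ := by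
  rw [Subgroup.eq_bot_iff_forall]
  intro z hz
  by_contra hz1
  exact h.ne (h.ax_fixed hz.1 hz1 hz.2.2).symm

theorem ww_inf_cc : h.ww ⊓ h.cc a b = ⊥ := by
  by_contra hne
  obtain ⟨x, ⟨hxw, hxc⟩, hx2, hx1⟩ := exists_invol hU2 ((inf_le_left).trans h.ww_le_U) hne
  let f : U →* h.ax a :=
    { toFun := fun τ => ⟨x * τ * x⁻¹ * (τ : G)⁻¹, hxw.2 _ τ.2⟩
      map_one' := Subtype.ext (by simp)
      map_mul' := fun τ σ => Subtype.ext (by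
        show x * ((τ : G) * σ) * x⁻¹ * ((τ : G) * σ)⁻¹ = (x * τ * x⁻¹ * (τ : G)⁻¹) * (x * σ * x⁻¹ * (σ : G)⁻¹)
        have hc := h.ax_comm (hxw.2 _ σ.2) τ.2
        calc x * ((τ : G) * σ) * x⁻¹ * ((τ : G) * σ)⁻¹
            = x * τ * x⁻¹ * (x * σ * x⁻¹ * (σ : G)⁻¹) * (τ : G)⁻¹ := by group
          _ = x * τ * x⁻¹ * ((x * σ * x⁻¹ * (σ : G)⁻¹) * (τ : G)⁻¹) := by rw [mul_assoc]
          _ = x * τ * x⁻¹ * ((τ : G)⁻¹ * (x * σ * x⁻¹ * (σ : G)⁻¹)) := by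
            rw [h.ax_comm (hxw.2 _ σ.2) (inv_mem τ.2)]
          _ = _ := by group) }
  have hker : ∀ τ : U, τ ∈ f.ker → ∃ p : h.ax a × h.cc a b, (τ : G) = p.1 * p.2 := fun τ hτ => by
    have e : x * τ * x⁻¹ * (τ : G)⁻¹ = 1 := congrArg Subtype.val (MonoidHom.mem_ker.1 hτ)
    obtain ⟨z, hz, c, hc, e'⟩ := h.comm_split hU2 hxc hx2 hx1 τ.2 (by
      calc (τ : G) * x = 1 * τ * x := by rw [one_mul]
        _ = x * τ := by rw [← e]; group)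
    exact ⟨⟨⟨z, hz⟩, ⟨c, hc⟩⟩, e'⟩
  choose p hp using hker
  have h1 : Nat.card f.ker ≤ Nat.card (h.ax a) * Nat.card (h.cc a b) := by
    rw [← Nat.card_prod]
    exact Nat.card_le_card_of_injective (fun τ : f.ker => p τ.1 τ.2) fun τ σ e => Subtype.ext (Subtype.ext (by
      rw [hp τ.1 τ.2, hp σ.1 σ.2, show p τ.1 τ.2 = p σ.1 σ.2 from e]))
  have h2 : f.ker.index ≤ Nat.card (h.ax a) := by
    rw [Subgroup.index_ker]; exact Subgroup.card_le_card_group f.range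
  have h3 := f.ker.card_mul_index
  rw [h.card_U hU2 hxc hx2 hx1] at h3
  have h4 := h.one_lt_ax hU2
  have h5 : 0 < Nat.card (h.cc a b) := Nat.card_pos
  have h6 := Nat.mul_le_mul h1 h2
  rw [h3] at h6
  nlinarith [Nat.mul_pos (Nat.mul_pos (by omega : 0 < Nat.card (h.ax a)) (by omega : 0 < Nat.card (h.ax a))) h5]

theorem cmW_ker {u : G} (hu : u ∈ h.cc a b) (hu2 : u * u = 1) (hu1 : u ≠ 1) {w : G} (hw : w ∈ h.ww)
    (hc : w * u = u * w) : w ∈ h.ax a := by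
  obtain ⟨z, hz, c, hc', rfl⟩ := h.comm_split hU2 hu hu2 hu1 hw.1 hc
  have h1 : c ∈ h.ww ⊓ h.cc a b := ⟨by
    have := mul_mem (inv_mem (h.ax_le_ww hz)) hw
    rwa [inv_mul_cancel_left] at this, hc'⟩
  rw [h.ww_inf_cc hU2, Subgroup.mem_bot] at h1
  rwa [h1, mul_one]

theorem exists_mem_ww {u : G} (hu : u ∈ h.cc a b) (hu2 : u * u = 1) (hu1 : u ≠ 1) :
    ∃ w ∈ h.ww, w ∉ h.ax a := by
  set A := (h.ax a).subgroupOf U with hA
  haveI : A.Normal := ⟨fun z hz v => h.ax_conj (h.U_le v.2) hz⟩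
  haveI : Nontrivial (U ⧸ A) := by
    rw [← Finite.one_lt_card_iff_nontrivial, ← Subgroup.index_eq_card]
    have h1 := A.card_mul_index
    rw [Nat.card_congr (Subgroup.subgroupOfEquivOfLe h.ax_le_U).toEquiv, h.card_U hU2 hu hu2 hu1] at h1
    by_contra hle
    have h4 := h.one_lt_ax hU2
    have h5 : 0 < Nat.card (h.cc a b) := Nat.card_pos
    have h6 : Nat.card (h.ax a) * A.index ≤ Nat.card (h.ax a) * 1 := Nat.mul_le_mul le_rfl (by omega)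
    have h7 : Nat.card (h.ax a) ^ 3 * 1 ≤ Nat.card (h.ax a) ^ 3 * Nat.card (h.cc a b) :=
      Nat.mul_le_mul le_rfl h5
    have h8 : Nat.card (h.ax a) ^ 1 < Nat.card (h.ax a) ^ 3 := Nat.pow_lt_pow_right h4 (by norm_num)
    rw [pow_one] at h8
    omega
  haveI : Fact (Nat.Prime 2) := ⟨Nat.prime_two⟩
  haveI := (hU2.to_quotient A).center_nontrivial
  obtain ⟨⟨x, hx⟩, hx1⟩ := exists_ne (1 : Subgroup.center (U ⧸ A))
  obtain ⟨w, rfl⟩ := QuotientGroup.mk'_surjective A x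
  refine ⟨w, ⟨w.2, fun v hv => ?_⟩, fun hwA => hx1 (Subtype.ext ((QuotientGroup.eq_one_iff w).2 hwA))⟩
  have e := Subgroup.mem_center_iff.1 hx (QuotientGroup.mk' A ⟨v, hv⟩)
  rw [← map_mul, ← map_mul] at e
  have e' := QuotientGroup.eq_iff_div_mem.1 e
  rw [div_eq_mul_inv, hA, Subgroup.mem_subgroupOf] at e'
  have := inv_mem e'
  simpa [mul_assoc] using this

/-- The commutator with an involution of `cc a b` maps `ww` onto `ax a`. -/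
theorem cmW_surjective {u : G} (hu : u ∈ h.cc a b) (hu2 : u * u = 1) (hu1 : u ≠ 1) :
    Function.Surjective (h.cmW (h.cc_le_U hu)) := by
  obtain ⟨k, hka, -, -, hkc, -, hktrans⟩ := h.exists_torus
  obtain ⟨w, hw, hwA⟩ := h.exists_mem_ww hU2 hu hu2 hu1
  have hd : w * u * w⁻¹ * u⁻¹ ≠ 1 := fun e => hwA (h.cmW_ker hU2 hu hu2 hu1 hw (by
    calc w * u = (w * u * w⁻¹ * u⁻¹) * (u * w) := by group
      _ = u * w := by rw [e, one_mul]))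
  rintro ⟨z, hz⟩
  by_cases hz1 : z = 1
  · exact ⟨1, by rw [map_one]; exact Subtype.ext hz1.symm⟩
  obtain ⟨i, hi⟩ := hktrans _ (hw.2 u (h.cc_le_U hu)) hd z hz hz1
  refine ⟨⟨(k : G) ^ i * w * ((k : G) ^ i)⁻¹, h.ww_conj ((stabilizer G a).pow_mem hka i) hw⟩, Subtype.ext ?_⟩
  have e : (k : G) ^ i * u = u * (k : G) ^ i := (Commute.pow_left (hkc u hu) i).eq
  show (k : G) ^ i * w * ((k : G) ^ i)⁻¹ * u * ((k : G) ^ i * w * ((k : G) ^ i)⁻¹)⁻¹ * u⁻¹ = z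
  rw [← hi]
  have e2 : ((k : G) ^ i)⁻¹ * u * (k : G) ^ i = u := by rw [mul_assoc, ← e, inv_mul_cancel_left]
  have e3 : ((k : G) ^ i)⁻¹ * u⁻¹ = u⁻¹ * ((k : G) ^ i)⁻¹ := by rw [← mul_inv_rev, ← mul_inv_rev, e]
  calc (k : G) ^ i * w * ((k : G) ^ i)⁻¹ * u * ((k : G) ^ i * w * ((k : G) ^ i)⁻¹)⁻¹ * u⁻¹
      = (k : G) ^ i * w * (((k : G) ^ i)⁻¹ * u * (k : G) ^ i) * w⁻¹ * (((k : G) ^ i)⁻¹ * u⁻¹) := by group
    _ = _ := by rw [e2, e3]; group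

theorem card_ww {u : G} (hu : u ∈ h.cc a b) (hu2 : u * u = 1) (hu1 : u ≠ 1) :
    Nat.card h.ww = Nat.card (h.ax a) ^ 2 := by
  have hs := h.cmW_surjective hU2 hu hu2 hu1
  have h1 := (h.cmW (h.cc_le_U hu)).ker.card_mul_index
  rw [Subgroup.index_ker, MonoidHom.range_eq_top.2 hs, Subgroup.card_top] at h1
  suffices h2 : Nat.card (h.cmW (h.cc_le_U hu)).ker = Nat.card (h.ax a) by rw [← h1, h2, sq]
  refine Nat.card_congr
    { toFun := fun w => ⟨w.1.1, h.cmW_ker hU2 hu hu2 hu1 w.1.2 ?_⟩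
      invFun := fun z => ⟨⟨z.1, h.ax_le_ww z.2⟩, MonoidHom.mem_ker.2 (Subtype.ext ?_)⟩
      left_inv := fun w => rfl
      right_inv := fun z => rfl }
  · have e : w.1.1 * u * w.1.1⁻¹ * u⁻¹ = 1 := congrArg Subtype.val (MonoidHom.mem_ker.1 w.2)
    calc w.1.1 * u = (w.1.1 * u * w.1.1⁻¹ * u⁻¹) * (u * w.1.1) := by group
      _ = u * w.1.1 := by rw [e, one_mul]
  · show z.1 * u * z.1⁻¹ * u⁻¹ = 1
    rw [h.ax_comm z.2 (h.cc_le_U hu), mul_inv_cancel_right, mul_inv_cancel]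

end Hyp

end Cfsg.Agent.SplitBNRankOne
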