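import Cfsg.Agent.Lib.SplitBNRankOne.Quot
import Cfsg.Agent.Lib.Bender.Setup
/-!
# The fixed points of an involution of `cc a b`

Every point moved by an involution `u` is moved as some central involution of a fixed point of `u`
moves it; counting gives `fx u = q + 1` and `|Ω| = q³ + 1` for `q = |ax a|`.
-/

set_option autoImplicit false
set_option linter.style.haveILetI false

namespace Cfsg.Agent.SplitBNRankOne

open MulAction Cfsg.Agent

universe u v

/-- The number of fixed points. -/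
noncomputable def fx {G : Type*} (Ω : Type*) [Group G] [MulAction G Ω] (w : G) : ℕ :=
  Nat.card {x : Ω // w • x = x}

theorem fx_conj {G Ω : Type*} [Group G] [MulAction G Ω] (g w : G) : fx Ω (g * w * g⁻¹) = fx Ω w :=
  Nat.card_congr
    { toFun := fun x => ⟨g⁻¹ • x.1, by
        have h := congrArg (g⁻¹ • ·) x.2
        simp only [mul_smul, inv_smul_smul] at h
        exact h⟩
      invFun := fun x => ⟨g • x.1, by rw [mul_smul, mul_smul, inv_smul_smul, x.2]⟩
      left_inv := fun x => Subtype.ext (smul_inv_smul g x.1)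
      right_inv := fun x => Subtype.ext (inv_smul_smul g x.1) }

namespace Hyp

variable {G : Type u} {Ω : Type v} [Group G] [MulAction G Ω] [FaithfulSMul G Ω] [Finite G]
  {a b : Ω} {U H : Subgroup G} (h : Hyp G Ω a b U H)
include h

/-- The centraliser of an involution is transitive on its fixed points. -/
theorem exists_commute_move {u : G} (hu : u * u = 1) {x y : Ω} (hx : u • x = x) (hy : u • y = y) :
    ∃ g : G, g • x = y ∧ g * u = u * g := by
  by_cases hxy : x = y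
  · exact ⟨1, by rw [one_smul, hxy], by simp⟩
  · obtain ⟨c, τ, -, -, hτ, -, -, hcomm⟩ := h.exists_swapper hxy
    exact ⟨τ, hτ, hcomm u ⟨h.mem_at_of_sq hu hx, hy⟩⟩

omit [FaithfulSMul G Ω] [Finite G] in
theorem cc_smul (g : G) (x y : Ω) {z : Ω} : h.cc (g • x) (g • y) ≤ stabilizer G z ↔
    h.cc x y ≤ stabilizer G (g⁻¹ • z) := by
  constructor
  · intro hle u hu
    have := hle ((h.conj_cc g).2 hu)
    rw [mem_stabilizer_iff, mul_smul, mul_smul] at this
    rw [mem_stabilizer_iff, eq_inv_smul_iff]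
    exact this
  · intro hle u hu
    have e : u = g * (g⁻¹ * u * g) * g⁻¹ := by group
    have := hle ((h.conj_cc g).1 (e ▸ hu))
    rw [mem_stabilizer_iff, mul_smul, mul_smul, inv_smul_eq_iff, smul_inv_smul] at this
    exact this

theorem odd_line (hU2 : IsPGroup 2 U) {x y : Ω} (hxy : x ≠ y) :
    Odd (Nat.card {z : Ω // h.cc x y ≤ stabilizer G z}) := by
  obtain ⟨g, rfl, rfl⟩ := h.exists_pair h.ne hxy
  rw [Nat.card_congr (β := h.Pt)
    { toFun := fun z => ⟨g⁻¹ • z.1, (h.cc_smul g a b).1 z.2⟩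
      invFun := fun z => ⟨g • z.1, (h.cc_smul g a b).2 (by rw [inv_smul_smul]; exact z.2)⟩
      left_inv := fun z => Subtype.ext (smul_inv_smul g z.1)
      right_inv := fun z => Subtype.ext (inv_smul_smul g z.1) }]
  haveI := h.finite_omega
  obtain ⟨τ, hτ, hτa, -, -⟩ := h.exists_tau
  have hS := h.setup_line hτ hτa
  rw [RankOne.Setup.card_omega hS]
  exact hS.even_card.add_one

/-- An involution fixing `c` that moves `p` along the line of `c` and `p` moves it as a central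
involution of `c` does. -/
theorem exists_ax_at [IsSimpleGroup G] {c p : Ω} (hcp : c ≠ p) {u : G} (hu : u * u = 1) (huc : u • c = c)
    (hline : h.cc c p ≤ stabilizer G (u • p)) (hup : u • p ≠ p) : ∃ v ∈ h.ax c, v • p = u • p := by
  obtain ⟨g, rfl, rfl⟩ := h.exists_pair h.ne hcp
  obtain ⟨w, rfl⟩ : ∃ w, u = g * w * g⁻¹ := ⟨g⁻¹ * u * g, by group⟩
  have hw : w * w = 1 := by
    rw [show g * w * g⁻¹ * (g * w * g⁻¹) = g * (w * w) * g⁻¹ by group, conj_eq_one_iff] at hu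
    exact hu
  have hwa : w • a = a := by
    rw [mul_smul, mul_smul, inv_smul_smul] at huc
    exact smul_left_cancel g huc
  have hwb : w • b ≠ b := fun e => hup (by rw [mul_smul, mul_smul, inv_smul_smul, e])
  have hline' : h.cc a b ≤ stabilizer G (w • b) := by
    rw [h.cc_smul, mul_smul, mul_smul, inv_smul_smul, inv_smul_smul] at hline
    exact hline
  have hwn : w ∈ h.nn := h.mem_nn h.ne (h.cc_le_left a b) (h.cc_le_right a b)
    (by rw [hwa]; exact h.cc_le_left a b) hline'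
  obtain ⟨v, hv, hvb⟩ := h.exists_ax_line (h.at_a ▸ h.mem_at_of_sq hw hwa) hw hwn hwb
  exact ⟨g * v * g⁻¹, (h.conj_ax g).2 hv, by
    rw [mul_smul, mul_smul, inv_smul_smul, hvb, mul_smul, mul_smul, inv_smul_smul]⟩

theorem reflect_exists [IsSimpleGroup G] (hU2 : IsPGroup 2 U) {u : G} (hu : u * u = 1) {p : Ω}
    (hp : u • p ≠ p) : ∃ c v, u • c = c ∧ v ∈ h.ax c ∧ v ≠ 1 ∧ (u * v) • p = p ∧ p ≠ c := by
  haveI := h.finite_omega
  have hpp : u • u • p = p := by rw [← mul_smul, hu, one_smul]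
  have hinv : ∀ z, h.cc p (u • p) ≤ stabilizer G z → h.cc p (u • p) ≤ stabilizer G (u • z) := fun z hz => by
    have e := (h.cc_smul u p (u • p) (z := u • z)).2 (by rw [inv_smul_smul]; exact hz)
    rwa [hpp, ← h.cc_comm hp.symm] at e
  obtain ⟨⟨c, hc⟩, hfc⟩ := Bender.exists_fixed_of_odd (h.odd_line hU2 hp.symm)
    (fun z => ⟨u • z.1, hinv z.1 z.2⟩) (fun z => Subtype.ext (by
      show u • u • z.1 = z.1
      rw [← mul_smul, hu, one_smul]))
  have huc : u • c = c := congrArg Subtype.val hfc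
  have hcp : c ≠ p := fun e => hp (e ▸ huc)
  have hcc : h.cc c p = h.cc p (u • p) := h.cc_eq_of_fix hp.symm hcp hc (h.cc_le_left p _)
  obtain ⟨v, hv, hvp⟩ := h.exists_ax_at hcp hu huc (hcc ▸ h.cc_le_right p _) hp
  refine ⟨c, v, huc, hv, fun e => hp (by rw [← hvp, e, one_smul]), ?_, hcp.symm⟩
  rw [mul_smul, hvp, hpp]

theorem reflect_unique {u : G} (hu : u * u = 1) {p c c' : Ω} {v v' : G} (huc : u • c = c)
    (huc' : u • c' = c') (hv : v ∈ h.ax c) (hv1 : v ≠ 1) (hv' : v' ∈ h.ax c') (hp : (u * v) • p = p)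
    (hp' : (u * v') • p = p) (hpc : p ≠ c) (hpc' : p ≠ c') : c = c' ∧ v = v' := by
  have key : ∀ {c : Ω} {v : G}, v ∈ h.ax c → (u * v) • p = p → v • p = u • p := fun {c v} _ e => by
    rw [mul_smul] at e
    calc v • p = u • (u • v • p) := by rw [← mul_smul u u, hu, one_smul]
      _ = u • p := by rw [e]
  have e1 := key hv hp
  have e2 := key hv' hp'
  have hup : u • p ≠ p := fun e => hpc (h.ax_fixed hv hv1 (e1.trans e))
  have line : ∀ {c : Ω} {v : G}, v ∈ h.ax c → v • p = u • p → c ≠ p →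
      h.cc c p = h.cc p (u • p) := fun {c v} hv e hcp => by
    have hfix : h.cc c p ≤ stabilizer G (u • p) := fun x hx => by
      rw [mem_stabilizer_iff, ← e, ← mul_smul, ← hv.2.2 x hx.1, mul_smul, show x • p = p from hx.2]
    exact (h.cc_eq_of_fix hcp hup.symm (h.cc_le_right c p) hfix).symm
  have hcc : c = c' := by
    by_contra hne
    have l1 := line hv e1 hpc.symm
    have l2 := line hv' e2 hpc'.symm
    have l3 : h.cc c c' = h.cc p (u • p) := h.cc_eq_of_fix hup.symm hne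
      (l1 ▸ h.cc_le_left c p) (l2 ▸ h.cc_le_left c' p)
    have hu' : u ∈ h.cc c c' := ⟨h.mem_at_of_sq hu huc, huc'⟩
    rw [l3] at hu'
    exact hup (h.cc_le_left _ _ hu')
  subst hcc
  refine ⟨rfl, ?_⟩
  by_contra hne
  refine hpc (h.ax_fixed (mul_mem hv' hv) (fun e => hne ?_) ?_)
  · rw [eq_inv_of_mul_eq_one_left e, inv_eq_of_mul_eq_one_right hv.2.1]
  · rw [mul_smul, e1, ← e2, ← mul_smul, hv'.2.1, one_smul]

/-- The count. -/
theorem count [IsSimpleGroup G] (hU2 : IsPGroup 2 U) {u : G} (hu : u * u = 1) (hua : u • a = a) {r : ℕ}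
    (hr : ∀ v ∈ h.ax a, v ≠ 1 → fx Ω (u * v) = r) :
    Nat.card Ω = fx Ω u + fx Ω u * ((Nat.card (h.ax a) - 1) * (r - 1)) := by
  classical
  haveI := h.finite_omega
  let T : {c : Ω // u • c = c} → Type (max u v) := fun c =>
    Σ v : {v : G // v ∈ h.ax c.1 ∧ v ≠ 1}, {p : Ω // (u * v.1) • p = p ∧ p ≠ c.1}
  have hfib : ∀ c : {c : Ω // u • c = c}, Nat.card (T c) = (Nat.card (h.ax a) - 1) * (r - 1) := by
    intro c
    obtain ⟨g, hg, hgu⟩ := h.exists_commute_move hu hua c.2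
    have hax : ∀ v, (g * v * g⁻¹ ∈ h.ax c.1 ↔ v ∈ h.ax a) := fun v => by rw [← hg, h.conj_ax]
    let e1 : {v : G // v ∈ h.ax a ∧ v ≠ 1} ≃ {v : G // v ∈ h.ax c.1 ∧ v ≠ 1} :=
      (MulAut.conj g).toEquiv.subtypeEquiv fun v => by
        show _ ↔ g * v * g⁻¹ ∈ h.ax c.1 ∧ g * v * g⁻¹ ≠ 1
        rw [hax]; exact and_congr_right fun _ => not_congr conj_eq_one_iff.symm
    have hr' : ∀ v : {v : G // v ∈ h.ax c.1 ∧ v ≠ 1},
        Nat.card {p : Ω // (u * v.1) • p = p ∧ p ≠ c.1} = r - 1 := by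
      intro v
      obtain ⟨⟨w, hw, hw1⟩, rfl⟩ := e1.surjective v
      have hvc : (u * (g * w * g⁻¹)) • c.1 = c.1 := by
        rw [mul_smul, show (g * w * g⁻¹) • c.1 = c.1 from h.at_le _ (h.ax_le _ ((hax w).2 hw)), c.2]
      have hfx : fx Ω (u * (g * w * g⁻¹)) = r := by
        rw [show u * (g * w * g⁻¹) = g * (u * w) * g⁻¹ by
          rw [← mul_assoc, ← mul_assoc, ← hgu]; group, fx_conj, hr w hw hw1]
      have e : Option {p : Ω // (u * (g * w * g⁻¹)) • p = p ∧ p ≠ c.1} ≃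
          {p : Ω // (u * (g * w * g⁻¹)) • p = p} :=
        { toFun := fun o => o.elim ⟨c.1, hvc⟩ fun p => ⟨p.1, p.2.1⟩
          invFun := fun p => if hp : p.1 = c.1 then none else some ⟨p.1, p.2, hp⟩
          left_inv := fun o => by
            rcases o with _ | ⟨p, hp, hpc⟩
            · simp
            · simp [hpc]
          right_inv := fun p => by
            by_cases hp : p.1 = c.1
            · simp only [hp, dif_pos]; exact Subtype.ext hp.symm
            · simp [hp] }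
      show Nat.card {p : Ω // (u * (g * w * g⁻¹)) • p = p ∧ p ≠ c.1} = r - 1
      rw [← hfx, fx, ← Nat.card_congr e, Finite.card_option, Nat.add_sub_cancel]
    have e2 : T c ≃ {v : G // v ∈ h.ax c.1 ∧ v ≠ 1} × Fin (r - 1) :=
      Equiv.sigmaEquivProdOfEquiv fun v => Finite.equivFinOfCardEq (hr' v)
    have e3 : Option {v : G // v ∈ h.ax a ∧ v ≠ 1} ≃ h.ax a :=
      { toFun := fun o => o.elim 1 fun v => ⟨v.1, v.2.1⟩
        invFun := fun v => if hv : (v : G) = 1 then none else some ⟨v, v.2, hv⟩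
        left_inv := fun o => by
          rcases o with _ | ⟨v, hv, hv1⟩
          · simp
          · simp [hv1]
        right_inv := fun v => by
          by_cases hv : (v : G) = 1
          · simp only [hv, dif_pos]; exact Subtype.ext hv.symm
          · simp [hv] }
    rw [Nat.card_congr e2, Nat.card_prod, Nat.card_fin, ← Nat.card_congr e1, ← Nat.card_congr e3,
      Finite.card_option, Nat.add_sub_cancel]
  let F : (Σ c, T c) → {p : Ω // ¬ u • p = p} := fun x => ⟨x.2.2.1, fun e => x.2.2.2.2 (h.ax_fixed x.2.1.2.1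
    x.2.1.2.2 (by
      have e' := x.2.2.2.1
      rw [mul_smul] at e'
      calc (x.2.1.1 : G) • x.2.2.1 = u • u • x.2.1.1 • x.2.2.1 := by rw [← mul_smul u u, hu, one_smul]
        _ = u • x.2.2.1 := by rw [e']
        _ = x.2.2.1 := e))⟩
  have hF : Function.Bijective F := by
    constructor
    · rintro ⟨⟨c, hc⟩, ⟨v, hv, hv1⟩, p, hp, hpc⟩ ⟨⟨c', hc'⟩, ⟨v', hv', hv1'⟩, p', hp', hpc'⟩ e
      obtain rfl : p = p' := congrArg Subtype.val e
      obtain ⟨rfl, rfl⟩ := h.reflect_unique hu hc hc' hv hv1 hv' hp hp' hpc hpc'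
      rfl
    · rintro ⟨p, hp⟩
      obtain ⟨c, v, hc, hv, hv1, hpv, hpc⟩ := h.reflect_exists hU2 hu hp
      exact ⟨⟨⟨c, hc⟩, ⟨v, hv, hv1⟩, p, hpv, hpc⟩, rfl⟩
  have e4 : (Σ c, T c) ≃ {c : Ω // u • c = c} × Fin ((Nat.card (h.ax a) - 1) * (r - 1)) :=
    Equiv.sigmaEquivProdOfEquiv fun c => Finite.equivFinOfCardEq (hfib c)
  rw [← Nat.card_congr (Equiv.sumCompl fun p : Ω => u • p = p), Nat.card_sum,
    ← Nat.card_congr (Equiv.ofBijective F hF), Nat.card_congr e4, Nat.card_prod, Nat.card_fin]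
  rfl

variable [IsSimpleGroup G]

theorem card_sub_one (hU2 : IsPGroup 2 U) : ∃ e : ℕ, Nat.card Ω = 2 ^ e + 1 := by
  haveI := h.finite_omega
  classical
  letI : MulAction U {y : Ω // y ≠ a} :=
    { smul := fun u y => ⟨(u : G) • y.1, fun e => y.2 (smul_left_cancel (u : G) (e.trans (h.U_le u.2).symm))⟩
      one_smul := fun y => Subtype.ext (one_smul G y.1)
      mul_smul := fun u v y => Subtype.ext (mul_smul (u : G) v y.1) }
  haveI : IsPretransitive U {y : Ω // y ≠ a} := ⟨fun y y' => by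
    obtain ⟨u, hu, e⟩ := h.exists_U_smul y.2 y'.2
    exact ⟨⟨u, hu⟩, Subtype.ext e⟩⟩
  haveI : Fact (Nat.Prime 2) := ⟨Nat.prime_two⟩
  obtain ⟨e, he⟩ := hU2.index (stabilizer U (⟨b, h.ne.symm⟩ : {y : Ω // y ≠ a}))
  refine ⟨e, ?_⟩
  rw [index_stabilizer_of_transitive] at he
  rw [← Nat.card_congr (Equiv.optionSubtypeNe a), Finite.card_option, he]

/-- An involution of `cc a b` has `q + 1` fixed points and `|Ω| = q³ + 1`. -/
theorem fx_eq (hU2 : IsPGroup 2 U) {u : G} (hu : u ∈ h.cc a b) (hu2 : u * u = 1) (hu1 : u ≠ 1) :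
    fx Ω u = Nat.card (h.ax a) + 1 ∧ Nat.card Ω = Nat.card (h.ax a) ^ 3 + 1 := by
  classical
  haveI := h.finite_omega
  obtain ⟨k, hka, -, -, hkc, -, hktrans⟩ := h.exists_torus
  obtain ⟨z₀, z₁, hz₀, hz₁, hz₀1, hz₁1, hz01⟩ := h.exists_two_ax
  have hua : u • a = a := h.cc_le_left a b hu
  have hconst : ∀ w ∈ h.cc a b, ∀ z ∈ h.ax a, z ≠ 1 → fx Ω (w * z) = fx Ω (w * z₀) := by
    intro w hw z hz hz1
    obtain ⟨i, rfl⟩ := hktrans z₀ hz₀ hz₀1 z hz hz1
    have e := (Commute.pow_left (hkc w hw) i).eq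
    rw [show w * ((k : G) ^ i * z₀ * ((k : G) ^ i)⁻¹) = (k : G) ^ i * (w * z₀) * ((k : G) ^ i)⁻¹ by
      rw [← mul_assoc ((k : G) ^ i), e, ← mul_assoc, ← mul_assoc], fx_conj]
  have hf1 : 1 < fx Ω u := by
    have : Nontrivial {x : Ω // u • x = x} :=
      ⟨⟨⟨a, hua⟩, ⟨b, hu.2⟩, fun e => h.ne (congrArg Subtype.val e)⟩⟩
    exact Finite.one_lt_card
  have hfn : fx Ω u ≠ Nat.card Ω := fun e => hu1 (FaithfulSMul.eq_of_smul_eq_smul fun x : Ω => by
    rw [one_smul]
    exact ((Nat.bijective_iff_injective_and_card (Subtype.val : {x : Ω // u • x = x} → Ω)).2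
      ⟨Subtype.val_injective, e⟩).2 x |>.elim fun y hy => hy ▸ y.2)
  have hcu := h.count hU2 hu2 hua (hconst u hu)
  have hg : 1 < fx Ω (u * z₀) := by
    by_contra hg
    rw [show fx Ω (u * z₀) - 1 = 0 by omega, mul_zero, mul_zero, add_zero] at hcu
    exact hfn hcu.symm
  -- `u * z₀` is conjugate into `cc a b`
  obtain ⟨x, hx, hxa⟩ : ∃ x, (u * z₀) • x = x ∧ x ≠ a := by
    by_contra hc
    push Not at hc
    haveI : Subsingleton {x : Ω // (u * z₀) • x = x} := ⟨fun x y => Subtype.ext ((hc _ x.2).trans (hc _ y.2).symm)⟩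
    exact absurd hg (not_lt.2 (Finite.card_le_one_iff_subsingleton.2 this))
  obtain ⟨w, hw, hwx⟩ := h.exists_U_smul hxa h.ne.symm
  have huU : u ∈ U := h.at_a ▸ hu.1
  have hzU : z₀ ∈ U := h.at_a ▸ hz₀.1
  have hw' : w * (u * z₀) * w⁻¹ ∈ h.cc a b := h.mem_cc_of_fix
    (mul_mem (mul_mem hw (mul_mem huU hzU)) (inv_mem hw)) (by
      rw [← hwx, mul_smul, mul_smul, inv_smul_smul, hx])
  have htrans : ∀ z ∈ h.ax a, fx Ω (u * z₀ * z) = fx Ω (w * (u * z₀) * w⁻¹ * z) := fun z hz => by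
    have e : z * w⁻¹ = w⁻¹ * z := hz.2.2 _ (by rw [h.at_a]; exact U.inv_mem hw)
    rw [show w * (u * z₀) * w⁻¹ * z = w * (u * z₀ * z) * w⁻¹ by
      simp only [mul_assoc]; rw [e], fx_conj]
  have hfg : fx Ω u = fx Ω (u * z₀) := by
    have e1 := htrans z₀ hz₀
    have e2 := htrans z₁ hz₁
    rw [hconst _ hw' z₀ hz₀ hz₀1, mul_assoc, hz₀.2.1, mul_one] at e1
    rw [hconst _ hw' z₁ hz₁ hz₁1, ← e1, mul_assoc,
      hconst u hu _ (mul_mem hz₀ hz₁) (fun e => hz01 (by
        rw [eq_inv_of_mul_eq_one_left e, inv_eq_of_mul_eq_one_right hz₁.2.1]))] at e2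
    exact e2.symm
  -- arithmetic
  set q := Nat.card (h.ax a) with hq
  have hq2 : IsPGroup 2 (h.ax a) := hU2.to_le ((h.ax_le a).trans h.at_a.le)
  haveI : Fact (Nat.Prime 2) := ⟨Nat.prime_two⟩
  obtain ⟨c, hqc'⟩ := hq2.exists_card_eq
  have hqc : q = 2 ^ c := hqc'
  have hqle : q + 1 ≤ fx Ω u := by
    rw [hq, ← Finite.card_option]
    refine Nat.card_le_card_of_injective
      (fun o : Option (h.ax a) => (o.elim ⟨a, hua⟩ fun z => ⟨(z : G) • b, by
        rw [← mul_smul, ← z.2.2.2 u hu.1, mul_smul, hu.2]⟩ : {x : Ω // u • x = x})) ?_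
    rintro (_ | ⟨z, hz⟩) (_ | ⟨z', hz'⟩) e
    · rfl
    · exact absurd (smul_left_cancel z' ((congrArg Subtype.val e).symm.trans
        (h.at_le a (h.ax_le a hz')).symm)) h.ne.symm
    · exact absurd (smul_left_cancel z ((congrArg Subtype.val e).trans
        (h.at_le a (h.ax_le a hz)).symm)) h.ne.symm
    · by_contra hne
      have e' : z • b = z' • b := congrArg Subtype.val e
      refine h.ne (h.ax_fixed (mul_mem (inv_mem hz') hz) (fun e'' => hne ?_)
        (by rw [mul_smul, inv_smul_eq_iff, e'])).symm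
      exact congrArg some (Subtype.ext (inv_mul_eq_one.1 e'').symm)
  obtain ⟨e, he⟩ := h.card_sub_one hU2
  rw [← hfg] at hcu
  obtain ⟨f', hf'⟩ : ∃ f', fx Ω u = f' + 1 := ⟨fx Ω u - 1, by omega⟩
  have hqgt : 1 < q := by
    haveI : Nontrivial (h.ax a) := ⟨⟨z₀, hz₀⟩, 1, fun e => hz₀1 (congrArg Subtype.val e)⟩
    exact Finite.one_lt_card
  obtain ⟨q', hq'⟩ : ∃ q', q = q' + 1 := ⟨q - 1, by omega⟩
  rw [hf', hq', Nat.add_sub_cancel, Nat.add_sub_cancel, he] at hcu
  have hprod : f' * (q' * (f' + 1) + 1) = 2 ^ e := by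
    have : f' * (q' * (f' + 1) + 1) + 1 = 2 ^ e + 1 := by rw [hcu]; ring
    omega
  obtain ⟨i, -, hi⟩ := (Nat.dvd_prime_pow Nat.prime_two).1 (Dvd.intro _ hprod)
  obtain ⟨j, -, hj⟩ := (Nat.dvd_prime_pow Nat.prime_two).1 (Dvd.intro_left _ hprod)
  have h1 : 2 ^ c ≤ 2 ^ i := by rw [← hqc, ← hi]; omega
  have hci : c ≤ i := (Nat.pow_le_pow_iff_right (le_refl 2)).1 h1
  have hqi : i = c := by
    by_contra hne
    obtain ⟨d, hd, rfl⟩ : ∃ d, 1 ≤ d ∧ i = c + d := ⟨i - c, by omega, by omega⟩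
    have e1 : q' * (f' + 1) + 1 = q * (1 + q' * 2 ^ d) := by
      rw [hi, pow_add, ← hqc, hq']; ring
    have hdvd : 1 + q' * 2 ^ d ∣ 2 ^ j := ⟨q, by rw [← hj, e1, mul_comm]⟩
    obtain ⟨s, -, hs⟩ := (Nat.dvd_prime_pow Nat.prime_two).1 hdvd
    have heven : 2 ∣ q' * 2 ^ d := (dvd_pow_self 2 (by omega)).mul_left _
    rcases s with _ | s
    · have : q' * 2 ^ d = 0 := by rw [pow_zero] at hs; omega
      rcases mul_eq_zero.1 this with h' | h'
      · omega
      · exact absurd h' (by positivity)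
    · obtain ⟨t, ht⟩ := heven
      rw [ht, pow_succ] at hs
      omega
  have hfq : f' = q := by rw [hi, hqi, hqc]
  refine ⟨by omega, ?_⟩
  rw [he, ← hprod, hfq]
  have : q' * (q + 1) + 1 = q * q := by rw [hq']; ring
  rw [this]; ring

end Hyp

end Cfsg.Agent.SplitBNRankOne
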