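import Cfsg.Agent.Lib.SplitBNRankOne.Count
/-!
# Fixed points of an involution of `cc a b`, and the torus

* `fix_split` : an element of `U` moving `b` to a fixed point of such an involution is in `ax a * cc a b`;
* `card_U` : `|U| = q³ |cc a b|`;
* `fixed_coset` : non-trivial powers of the torus fix no non-trivial coset of an invariant subgroup
  containing `cc a b`.
-/

set_option autoImplicit false
set_option linter.style.haveILetI false

namespace Cfsg.Agent.SplitBNRankOne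

open MulAction Cfsg.Agent

universe u v

namespace Hyp

variable {G : Type u} {Ω : Type v} [Group G] [MulAction G Ω] [FaithfulSMul G Ω] [Finite G]
  {a b : Ω} {U H : Subgroup G} (h : Hyp G Ω a b U H)
include h

omit [FaithfulSMul G Ω] [Finite G] in
theorem cc_le_U : h.cc a b ≤ U := inf_le_left.trans h.at_a.le

omit [FaithfulSMul G Ω] [Finite G] in
theorem ax_le_U : h.ax a ≤ U := (h.ax_le a).trans h.at_a.le

omit [FaithfulSMul G Ω] [Finite G] in
theorem ax_comm {z v : G} (hz : z ∈ h.ax a) (hv : v ∈ U) : z * v = v * z :=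
  hz.2.2 v (by rw [h.at_a]; exact hv)

omit [FaithfulSMul G Ω] [Finite G] in
theorem ax_conj {g z : G} (hg : g • a = a) (hz : z ∈ h.ax a) : g * z * g⁻¹ ∈ h.ax a := by
  have := (h.conj_ax g).2 hz
  rwa [hg] at this

omit h [FaithfulSMul G Ω] in
/-- A non-trivial subgroup of a 2-group has an involution. -/
theorem _root_.Cfsg.Agent.SplitBNRankOne.exists_invol (hU2 : IsPGroup 2 U) {X : Subgroup G} (hX : X ≤ U)
    (hne : X ≠ ⊥) : ∃ x ∈ X, x * x = 1 ∧ x ≠ 1 := by
  haveI : Fact (Nat.Prime 2) := ⟨Nat.prime_two⟩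
  obtain ⟨e, he⟩ := (hU2.to_le hX).exists_card_eq
  have hd : 2 ∣ Nat.card X := by
    rcases e with _ | e
    · rw [pow_zero] at he; exact absurd (Subgroup.card_eq_one.1 he) hne
    · rw [he]; exact dvd_pow_self 2 e.succ_ne_zero
  obtain ⟨⟨x, hx⟩, hx2⟩ := exists_prime_orderOf_dvd_card' 2 hd
  rw [Subgroup.orderOf_mk] at hx2
  exact ⟨x, hx, by rw [← pow_two, ← hx2, pow_orderOf_eq_one], fun e => by simp [e] at hx2⟩

variable [IsSimpleGroup G] (hU2 : IsPGroup 2 U)
include hU2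

/-- The fixed points of an involution of `cc a b` are `a` and `ax a • b`. -/
theorem fix_split {u w : G} (hu : u ∈ h.cc a b) (hu2 : u * u = 1) (hu1 : u ≠ 1) (hw : w ∈ U)
    (hwb : u • w • b = w • b) : ∃ z ∈ h.ax a, ∃ c ∈ h.cc a b, w = z * c := by
  classical
  haveI := h.finite_omega
  let f : Option (h.ax a) → {x : Ω // u • x = x} := fun o => o.elim ⟨a, h.cc_le_left a b hu⟩
    fun z => ⟨(z : G) • b, by rw [← mul_smul, ← z.2.2.2 u hu.1, mul_smul, hu.2]⟩
  have hf : Function.Injective f := by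
    rintro (_ | ⟨z, hz⟩) (_ | ⟨z', hz'⟩) e
    · rfl
    · exact absurd (smul_left_cancel z' ((congrArg Subtype.val e).symm.trans
        (h.at_le a (h.ax_le a hz')).symm)) h.ne.symm
    · exact absurd (smul_left_cancel z ((congrArg Subtype.val e).trans
        (h.at_le a (h.ax_le a hz)).symm)) h.ne.symm
    · by_contra hne
      have e' : z • b = z' • b := congrArg Subtype.val e
      refine h.ne (h.ax_fixed (mul_mem (inv_mem hz') hz) (fun e'' => hne ?_)
        (by rw [mul_smul, inv_smul_eq_iff, e'])).symm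
      exact congrArg some (Subtype.ext (inv_mul_eq_one.1 e'').symm)
  have hb := (Nat.bijective_iff_injective_and_card f).2 ⟨hf, by
    rw [Finite.card_option]; exact (h.fx_eq hU2 hu hu2 hu1).1.symm⟩
  obtain ⟨o, ho⟩ := hb.2 ⟨w • b, hwb⟩
  rcases o with _ | ⟨z, hz⟩
  · exact absurd (smul_left_cancel w ((congrArg Subtype.val ho).symm.trans (h.U_le hw).symm)) h.ne.symm
  · refine ⟨z, hz, z⁻¹ * w, h.mem_cc_of_fix (mul_mem (inv_mem (h.ax_le_U hz)) hw) ?_, by group⟩
    rw [mul_smul, ← show z • b = w • b from congrArg Subtype.val ho, inv_smul_smul]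

/-- The centraliser in `U` of an involution of `cc a b`. -/
theorem comm_split {u w : G} (hu : u ∈ h.cc a b) (hu2 : u * u = 1) (hu1 : u ≠ 1) (hw : w ∈ U)
    (hc : w * u = u * w) : ∃ z ∈ h.ax a, ∃ c ∈ h.cc a b, w = z * c :=
  h.fix_split hU2 hu hu2 hu1 hw (by rw [← mul_smul, ← hc, mul_smul, hu.2])

theorem card_U {u : G} (hu : u ∈ h.cc a b) (hu2 : u * u = 1) (hu1 : u ≠ 1) :
    Nat.card U = Nat.card (h.ax a) ^ 3 * Nat.card (h.cc a b) := by
  classical
  haveI := h.finite_omega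
  letI : MulAction U {y : Ω // y ≠ a} :=
    { smul := fun u y => ⟨(u : G) • y.1, fun e => y.2 (smul_left_cancel (u : G) (e.trans (h.U_le u.2).symm))⟩
      one_smul := fun y => Subtype.ext (one_smul G y.1)
      mul_smul := fun u v y => Subtype.ext (mul_smul (u : G) v y.1) }
  haveI : IsPretransitive U {y : Ω // y ≠ a} := ⟨fun y y' => by
    obtain ⟨u, hu, e⟩ := h.exists_U_smul y.2 y'.2
    exact ⟨⟨u, hu⟩, Subtype.ext e⟩⟩
  have h1 := (stabilizer U (⟨b, h.ne.symm⟩ : {y : Ω // y ≠ a})).card_mul_index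
  rw [index_stabilizer_of_transitive] at h1
  have h2 : Nat.card (stabilizer U (⟨b, h.ne.symm⟩ : {y : Ω // y ≠ a})) = Nat.card (h.cc a b) := Nat.card_congr
    { toFun := fun x => ⟨x.1.1, h.mem_cc_of_fix x.1.2 (congrArg Subtype.val x.2)⟩
      invFun := fun x => ⟨⟨x.1, h.cc_le_U x.2⟩, Subtype.ext x.2.2⟩
      left_inv := fun x => rfl
      right_inv := fun x => rfl }
  have h3 : Nat.card Ω = Nat.card {y : Ω // y ≠ a} + 1 := by
    rw [← Nat.card_congr (Equiv.optionSubtypeNe a), Finite.card_option]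
  have h4 := (h.fx_eq hU2 hu hu2 hu1).2
  rw [h2, show Nat.card {y : Ω // y ≠ a} = Nat.card (h.ax a) ^ 3 by omega] at h1
  rw [← h1, mul_comm]

/-- Powers of the torus acting non-trivially on the line fix no coset. -/
theorem fixed_coset {k : h.nn} (hka : (k : G) • a = a) (ho : Odd (orderOf (k : G)))
    (hc : ∀ u ∈ h.cc a b, (k : G) * u = u * k)
    (hk2 : ∀ i : ℕ, h.phi.rangeRestrict k ^ i ≠ 1 → ∀ u ∈ U, u ∈ h.nn →
      (k : G) ^ i * u = u * (k : G) ^ i → u ∈ h.cc a b)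
    {M : Subgroup G} (hMU : M ≤ U) (hCM : h.cc a b ≤ M) (hkM : ∀ m ∈ M, (k : G) * m * (k : G)⁻¹ ∈ M)
    {τ : G} (hτ : τ ∈ U) {i : ℕ} (hi : h.phi.rangeRestrict k ^ i ≠ 1)
    (hcoset : τ⁻¹ * ((k : G) ^ i * τ * ((k : G) ^ i)⁻¹) ∈ M) : τ ∈ M := by
  classical
  haveI : Fact (Nat.Prime 2) := ⟨Nat.prime_two⟩
  -- a prime power part of `k ^ i` moving the line
  obtain ⟨o, hoo⟩ : ∃ o, o = orderOf ((k : G) ^ i) := ⟨_, rfl⟩
  have hodd : Odd o := hoo ▸ ho.of_dvd_nat (orderOf_pow_dvd i)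
  obtain ⟨r, hr, hrd⟩ := Nat.exists_prime_and_dvd (n := orderOf (h.phi.rangeRestrict k ^ i))
    (fun e => hi (orderOf_eq_one_iff.1 e))
  haveI := Fact.mk hr
  have himg : orderOf (h.phi.rangeRestrict k ^ i) ∣ o := by
    rw [hoo, ← map_pow, ← SubmonoidClass.coe_pow, Subgroup.orderOf_coe]
    exact orderOf_map_dvd _ _
  have ho0 : o ≠ 0 := fun e => by rw [e] at hodd; exact absurd hodd (by decide)
  obtain ⟨e, m, hm, hem⟩ := Nat.exists_eq_pow_mul_and_not_dvd ho0 r hr.ne_one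
  have hj : h.phi.rangeRestrict k ^ (i * m) ≠ 1 := fun e' => hm (hrd.trans
    (orderOf_dvd_of_pow_eq_one (by rw [← pow_mul, e'])))
  have hr2 : r ≠ 2 := fun e' => Nat.not_even_iff_odd.2 hodd (even_iff_two_dvd.2 (e' ▸ hrd.trans himg))
  have hse : ((k : G) ^ (i * m)) ^ r ^ e = 1 := by
    rw [pow_mul, ← pow_mul, mul_comm m, ← hem, hoo, pow_orderOf_eq_one]
  -- invariance
  have hkM' : ∀ (n : ℕ), ∀ x ∈ M, (k : G) ^ n * x * ((k : G) ^ n)⁻¹ ∈ M := by
    intro n
    induction n with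
    | zero => intro x hx; simpa using hx
    | succ n ih =>
      intro x hx
      rw [pow_succ', show (k : G) * (k : G) ^ n * x * ((k : G) * (k : G) ^ n)⁻¹ =
        k * ((k : G) ^ n * x * ((k : G) ^ n)⁻¹) * (k : G)⁻¹ by group]
      exact hkM _ (ih x hx)
  have hpow : ∀ n : ℕ, τ⁻¹ * (((k : G) ^ i) ^ n * τ * (((k : G) ^ i) ^ n)⁻¹) ∈ M := by
    intro n
    induction n with
    | zero => simp
    | succ n ih =>
      have h1 := hkM' i _ ih
      rw [show (k : G) ^ i * (τ⁻¹ * (((k : G) ^ i) ^ n * τ * (((k : G) ^ i) ^ n)⁻¹)) * ((k : G) ^ i)⁻¹ =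
        ((k : G) ^ i * τ * ((k : G) ^ i)⁻¹)⁻¹ *
          (((k : G) ^ i) ^ (n + 1) * τ * (((k : G) ^ i) ^ (n + 1))⁻¹) by group] at h1
      have h2 := M.mul_mem hcoset h1
      rwa [mul_assoc τ⁻¹, mul_inv_cancel_left] at h2
  obtain ⟨s, hs⟩ : ∃ s, s = (k : G) ^ (i * m) := ⟨_, rfl⟩
  rw [← hs] at hse
  have hsM : ∀ n : ℕ, τ⁻¹ * (s ^ n * τ * (s ^ n)⁻¹) ∈ M := fun n => by
    rw [hs, pow_mul, ← pow_mul]; exact hpow _
  -- a fixed point of `s` in the coset
  let X := {w : G // τ⁻¹ * w ∈ M}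
  have hstep : ∀ w : X, τ⁻¹ * (s * w.1 * s⁻¹) ∈ M := fun w => by
    have h1 := hkM' (i * m) _ w.2
    rw [← hs] at h1
    have h2 := M.mul_mem (hsM 1) h1
    rw [pow_one] at h2
    rwa [show τ⁻¹ * (s * τ * s⁻¹) * (s * (τ⁻¹ * w.1) * s⁻¹) = τ⁻¹ * (s * w.1 * s⁻¹) by group] at h2
  let g : X → X := fun w => ⟨s * w.1 * s⁻¹, hstep w⟩
  have hg : Function.Bijective g := Finite.injective_iff_bijective.1 fun w w' e =>
    Subtype.ext (mul_left_cancel (mul_right_cancel (congrArg Subtype.val e)))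
  letI := Fintype.ofFinite X
  obtain ⟨⟨w, hw⟩, hfix⟩ := Equiv.Perm.exists_fixed_point_of_prime (p := r) (n := e)
    (σ := Equiv.ofBijective g hg) (by
      rw [← Nat.card_eq_fintype_card, Nat.card_congr (β := M)
        ({ toFun := fun w => ⟨τ⁻¹ * w.1, w.2⟩
           invFun := fun x => ⟨τ * x.1, by rw [inv_mul_cancel_left]; exact x.2⟩
           left_inv := fun w => Subtype.ext (mul_inv_cancel_left τ w.1)
           right_inv := fun x => Subtype.ext (inv_mul_cancel_left τ x.1) } : X ≃ M)]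
      obtain ⟨c, hc⟩ := (hU2.to_le hMU).exists_card_eq
      rw [hc]
      exact fun hd => hr2 ((Nat.prime_dvd_prime_iff_eq hr Nat.prime_two).1 (hr.dvd_of_dvd_pow hd)))
    (by
      have key : ∀ (n : ℕ) (w : X), (((Equiv.ofBijective g hg) ^ n) w).1 = s ^ n * w.1 * (s ^ n)⁻¹ := by
        intro n
        induction n with
        | zero => intro w; simp
        | succ n ih =>
          intro w
          rw [pow_succ', Equiv.Perm.mul_apply]
          show s * _ * s⁻¹ = _
          rw [ih, pow_succ']; group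
      refine Equiv.ext fun w => Subtype.ext ?_
      rw [key, hse]; simp)
  have hsw : s * w = w * s := by
    have e1 : s * w * s⁻¹ = w := congrArg Subtype.val hfix
    calc s * w = s * w * s⁻¹ * s := by group
      _ = w * s := by rw [e1]
  have hwU : w ∈ U := by
    have := U.mul_mem hτ (hMU hw)
    rwa [mul_inv_cancel_left] at this
  -- the centraliser of `s` in `U` is `cc a b`
  set X' := U ⊓ Subgroup.centralizer {s} with hX'
  have hCX : h.cc a b ≤ X' := le_inf h.cc_le_U fun x hx => Subgroup.mem_centralizer_singleton_iff.2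
    (by rw [hs]; exact ((Commute.pow_left (hc x hx) _).eq).symm)
  have hXC : X' ≤ h.cc a b := by
    by_contra hne
    haveI := h.nil
    haveI : Group.IsNilpotent X' :=
      Group.nilpotent_of_mulEquiv (Subgroup.subgroupOfEquivOfLe (inf_le_left : X' ≤ U))
    have hlt : (h.cc a b).subgroupOf X' < ⊤ := lt_top_iff_ne_top.2 fun e =>
      hne (Subgroup.subgroupOf_eq_top.1 e)
    obtain ⟨⟨x, hx⟩, hxn, hxC⟩ := SetLike.exists_of_lt (Group.normalizerCondition_of_isNilpotent _ hlt)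
    refine hxC (hk2 _ hj x hx.1 (Subgroup.mem_normalizer_fintype fun y hy => ?_) ?_)
    · exact (Subgroup.mem_normalizer_iff.1 hxn ⟨y, hCX hy⟩).1 hy
    · rw [← hs]; exact (Subgroup.mem_centralizer_singleton_iff.1 hx.2).symm
  have hwC : w ∈ M := hCM (hXC ⟨hwU, Subgroup.mem_centralizer_singleton_iff.2 hsw.symm⟩)
  have := M.mul_mem hwC (M.inv_mem hw)
  rwa [show w * (τ⁻¹ * w)⁻¹ = τ by group] at this

end Hyp

end Cfsg.Agent.SplitBNRankOne
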