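import Cfsg.Agent.Lib.SplitBNRankOne.Central
/-!
# A non-trivial `cc a b` has order two and inverts the second centre

With `m1 = ww * cc a b` and `τ` in its normaliser in `U`, outside it.
-/

set_option autoImplicit false
set_option linter.style.haveILetI false

namespace Cfsg.Agent.SplitBNRankOne

open MulAction Cfsg.Agent

universe u v

namespace Hyp

variable {G : Type u} {Ω : Type v} [Group G] [MulAction G Ω] {a b : Ω} {U H : Subgroup G}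

/-- The product of the second centre and `cc a b`. -/
def m1 (h : Hyp G Ω a b U H) : Subgroup G where
  carrier := {x | ∃ w ∈ h.ww, ∃ c ∈ h.cc a b, x = w * c}
  one_mem' := ⟨1, one_mem _, 1, one_mem _, by simp⟩
  mul_mem' := by
    rintro _ _ ⟨w, hw, c, hc, rfl⟩ ⟨w', hw', c', hc', rfl⟩
    exact ⟨w * (c * w' * c⁻¹), mul_mem hw (h.ww_conj (h.cc_le_left a b hc) hw'), c * c', mul_mem hc hc', by group⟩
  inv_mem' := by
    rintro _ ⟨w, hw, c, hc, rfl⟩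
    exact ⟨c⁻¹ * w⁻¹ * c⁻¹⁻¹, h.ww_conj (h.cc_le_left a b (inv_mem hc)) (inv_mem hw), c⁻¹, inv_mem hc, by group⟩

variable (h : Hyp G Ω a b U H)
include h

theorem ww_le_m1 : h.ww ≤ h.m1 := fun w hw => ⟨w, hw, 1, one_mem _, (mul_one w).symm⟩

theorem cc_le_m1 : h.cc a b ≤ h.m1 := fun c hc => ⟨1, one_mem _, c, hc, (one_mul c).symm⟩

theorem m1_le_U : h.m1 ≤ U := by
  rintro _ ⟨w, hw, c, hc, rfl⟩
  exact mul_mem hw.1 (h.cc_le_U hc)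

variable [FaithfulSMul G Ω] [Finite G] [IsSimpleGroup G] (hU2 : IsPGroup 2 U)
include hU2

theorem ax_cc_le_m1 {u w : G} (hu : u ∈ h.cc a b) (hu2 : u * u = 1) (hu1 : u ≠ 1) (hw : w ∈ U)
    (hc : w * u = u * w) : w ∈ h.m1 := by
  obtain ⟨z, hz, c, hc', rfl⟩ := h.comm_split hU2 hu hu2 hu1 hw hc
  exact ⟨z, h.ax_le_ww hz, c, hc', rfl⟩

theorem card_m1 {u : G} (hu : u ∈ h.cc a b) (hu2 : u * u = 1) (hu1 : u ≠ 1) :
    Nat.card h.m1 = Nat.card (h.ax a) ^ 2 * Nat.card (h.cc a b) := by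
  rw [← h.card_ww hU2 hu hu2 hu1, ← Nat.card_prod]
  refine (Nat.card_congr (Equiv.ofBijective
    (fun p : h.ww × h.cc a b => (⟨p.1.1 * p.2.1, p.1.1, p.1.2, p.2.1, p.2.2, rfl⟩ : h.m1)) ⟨?_, ?_⟩)).symm
  · rintro ⟨⟨w, hw⟩, ⟨c, hc⟩⟩ ⟨⟨w', hw'⟩, ⟨c', hc'⟩⟩ e
    have e' : w * c = w' * c' := congrArg Subtype.val e
    have h1 : w'⁻¹ * w ∈ h.ww ⊓ h.cc a b := ⟨h.ww.mul_mem (h.ww.inv_mem hw') hw, by
      have : w'⁻¹ * w = c' * c⁻¹ := by rw [inv_mul_eq_iff_eq_mul, ← mul_assoc, ← e', mul_inv_cancel_right]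
      rw [this]; exact (h.cc a b).mul_mem hc' ((h.cc a b).inv_mem hc)⟩
    rw [h.ww_inf_cc hU2, Subgroup.mem_bot, inv_mul_eq_one] at h1
    subst h1
    obtain rfl := mul_left_cancel e'
    rfl
  · rintro ⟨_, w, hw, c, hc, rfl⟩
    exact ⟨⟨⟨w, hw⟩, ⟨c, hc⟩⟩, rfl⟩

/-- Some element outside `m1` normalises it. -/
theorem exists_norm_m1 {u : G} (hu : u ∈ h.cc a b) (hu2 : u * u = 1) (hu1 : u ≠ 1) :
    ∃ τ ∈ U, τ ∉ h.m1 ∧ τ ∈ Subgroup.normalizer (h.m1 : Set G) := by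
  haveI := h.nil
  have hlt : h.m1.subgroupOf U < ⊤ := lt_top_iff_ne_top.2 fun e => by
    have e' := Subgroup.card_le_of_le (Subgroup.subgroupOf_eq_top.1 e)
    rw [h.card_m1 hU2 hu hu2 hu1, h.card_U hU2 hu hu2 hu1] at e'
    have h4 := h.one_lt_ax hU2
    have h5 : 0 < Nat.card (h.cc a b) := Nat.card_pos
    exact absurd (Nat.le_of_mul_le_mul_right e' h5) (not_le.2 (Nat.pow_lt_pow_right h4 (by norm_num)))
  obtain ⟨⟨τ, hτ⟩, hn, hnot⟩ := SetLike.exists_of_lt (Group.normalizerCondition_of_isNilpotent _ hlt)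
  refine ⟨τ, hτ, hnot, Subgroup.mem_normalizer_fintype fun y hy => ?_⟩
  exact (Subgroup.mem_normalizer_iff.1 hn ⟨y, h.m1_le_U hy⟩).1 hy

/-- An element of `ww` outside `ax a` inverted by all involutions of `cc a b`. -/
theorem exists_inverted {x : G} (hx : x ∈ h.cc a b) (hx2 : x * x = 1) (hx1 : x ≠ 1) :
    ∃ d ∈ h.ww, d ∉ h.ax a ∧ x * d * x = d⁻¹ := by
  obtain ⟨k, hka, -, ho, hkc, hk2, hktrans⟩ := h.exists_torus
  obtain ⟨τ, hτ, hτm, hτn⟩ := h.exists_norm_m1 hU2 hx hx2 hx1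
  obtain ⟨z₀, z₁, hz₀, hz₁, hz₀1, hz₁1, hz01⟩ := h.exists_two_ax
  obtain ⟨i, hi⟩ := hktrans z₀ hz₀ hz₀1 z₁ hz₁ hz₁1
  have hi1 : h.phi.rangeRestrict k ^ i ≠ 1 := fun e => by
    rw [← map_pow, h.rangeRestrict_eq_one] at e
    apply hz01
    by_contra hne
    refine h.ne (h.ax_fixed (mul_mem (inv_mem hz₀) hz₁) (fun e' => hne (inv_mul_eq_one.1 e')) ?_).symm
    have hkb : (k : G) ^ i • b = b := e b (h.cc_le_right a b)
    have hzb : (k : G) ^ i • z₀ • b = z₀ • b := e _ fun y hy => by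
      rw [mem_stabilizer_iff, ← mul_smul, ← hz₀.2.2 y hy.1, mul_smul, show y • b = b from hy.2]
    rw [mul_smul, inv_smul_eq_iff, ← hi, mul_smul, mul_smul,
      show ((k : G) ^ i)⁻¹ • b = b by rw [inv_smul_eq_iff, hkb], hzb]
  have hkM : ∀ m ∈ h.m1, (k : G) * m * (k : G)⁻¹ ∈ h.m1 := by
    rintro _ ⟨w, hw, c, hc, rfl⟩
    refine ⟨(k : G) * w * (k : G)⁻¹, h.ww_conj hka hw, c, hc, ?_⟩
    calc (k : G) * (w * c) * (k : G)⁻¹ = (k : G) * w * (c * (k : G)⁻¹) := by group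
      _ = (k : G) * w * ((k : G)⁻¹ * c) := by rw [← (Commute.inv_left (hkc c hc)).eq]
      _ = _ := by group
  obtain ⟨g, hg⟩ : ∃ g, g = (k : G) ^ i := ⟨_, rfl⟩
  have hga : g • a = a := hg ▸ (stabilizer G a).pow_mem hka i
  obtain ⟨τ', hτ'⟩ : ∃ τ', τ' = τ⁻¹ * (g * τ * g⁻¹) := ⟨_, rfl⟩
  have hτ'U : τ' ∈ U := hτ' ▸ mul_mem (inv_mem hτ) (h.U_norm g hga τ hτ)
  have hτ'm : τ' ∉ h.m1 := fun hm => hτm
    (h.fixed_coset hU2 hka ho hkc hk2 h.m1_le_U h.cc_le_m1 hkM hτ hi1 (by rw [← hg, ← hτ']; exact hm))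
  obtain ⟨w, hw, c', hc', he⟩ := (Subgroup.mem_normalizer_iff.1 hτn x).1 (h.cc_le_m1 hx)
  have hgc : g * c' * g⁻¹ = c' := by
    rw [hg, (Commute.pow_left (hkc c' hc') i).eq, mul_inv_cancel_right]
  have hgx : g⁻¹ * x * g = x := by
    rw [hg, mul_assoc, ← (Commute.pow_left (hkc x hx) i).eq, inv_mul_cancel_left]
  have hd : τ' * x * τ'⁻¹ * x⁻¹ = τ⁻¹ * (g * w * g⁻¹ * w⁻¹) * τ⁻¹⁻¹ := by
    rw [hτ', show τ⁻¹ * (g * τ * g⁻¹) * x * (τ⁻¹ * (g * τ * g⁻¹))⁻¹ * x⁻¹ =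
        τ⁻¹ * g * (τ * (g⁻¹ * x * g) * τ⁻¹) * g⁻¹ * τ * x⁻¹ by group, hgx, he,
      show τ⁻¹ * g * (w * c') * g⁻¹ * τ * x⁻¹ = τ⁻¹ * (g * w * g⁻¹) * (g * c' * g⁻¹) * τ * x⁻¹ by group, hgc,
      show c' = w⁻¹ * (τ * x * τ⁻¹) by rw [he, inv_mul_cancel_left]]
    group
  have hdw : τ' * x * τ'⁻¹ * x⁻¹ ∈ h.ww := hd ▸ h.ww_conj (h.U_le (inv_mem hτ))
    (mul_mem (h.ww_conj hga hw) (inv_mem hw))
  refine ⟨_, hdw, fun hda => hτ'm ?_, ?_⟩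
  · obtain ⟨⟨v, hv⟩, hv'⟩ := h.cmW_surjective hU2 hx hx2 hx1 ⟨_, hda⟩
    have e : v * x * v⁻¹ * x⁻¹ = τ' * x * τ'⁻¹ * x⁻¹ := congrArg Subtype.val hv'
    have e' := mul_right_cancel e
    have hm : v⁻¹ * τ' ∈ h.m1 := h.ax_cc_le_m1 hU2 hx hx2 hx1 (mul_mem (inv_mem hv.1) hτ'U) (by
      calc v⁻¹ * τ' * x = v⁻¹ * (τ' * x * τ'⁻¹) * τ' := by group
        _ = v⁻¹ * (v * x * v⁻¹) * τ' := by rw [e']
        _ = _ := by group)
    have := mul_mem (h.ww_le_m1 hv) hm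
    rwa [mul_inv_cancel_left] at this
  · have hxi : x⁻¹ = x := inv_eq_of_mul_eq_one_right hx2
    rw [hxi]; simp [mul_assoc, hx2, hxi]

/-- An involution of `cc a b` inverts `ww`. -/
theorem inverts_ww {x : G} (hx : x ∈ h.cc a b) (hx2 : x * x = 1) (hx1 : x ≠ 1) {w : G} (hw : w ∈ h.ww) :
    x * w * x = w⁻¹ := by
  obtain ⟨k, hka, -, -, hkc, -, hktrans⟩ := h.exists_torus
  have haxi : ∀ z ∈ h.ax a, x * z * x = z⁻¹ := fun z hz => by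
    rw [← h.ax_comm hz (h.cc_le_U hx), mul_assoc, hx2, mul_one, inv_eq_of_mul_eq_one_right hz.2.1]
  by_cases hwa : w ∈ h.ax a
  · exact haxi w hwa
  obtain ⟨d, hd, hda, hdi⟩ := h.exists_inverted hU2 hx hx2 hx1
  have hcm : ∀ v ∈ h.ww, v ∉ h.ax a → v * x * v⁻¹ * x⁻¹ ≠ 1 := fun v hv hva e => hva
    (h.cmW_ker hU2 hx hx2 hx1 hv (by
      calc v * x = (v * x * v⁻¹ * x⁻¹) * (x * v) := by group
        _ = x * v := by rw [e, one_mul]))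
  obtain ⟨i, hi⟩ := hktrans _ (hd.2 x (h.cc_le_U hx)) (hcm d hd hda) _ (hw.2 x (h.cc_le_U hx)) (hcm w hw hwa)
  obtain ⟨g, hg⟩ : ∃ g, g = (k : G) ^ i := ⟨_, rfl⟩
  have hgx : g * x = x * g := hg ▸ (Commute.pow_left (hkc x hx) i).eq
  rw [← hg] at hi
  have hga : g • a = a := hg ▸ (stabilizer G a).pow_mem hka i
  have e2 : g⁻¹ * x * g = x := by rw [mul_assoc, ← hgx, inv_mul_cancel_left]
  have e3 : g * x * g⁻¹ = x := by rw [hgx, mul_inv_cancel_right]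
  obtain ⟨d', hd'⟩ : ∃ d', d' = g * d * g⁻¹ := ⟨_, rfl⟩
  have hd'w : d' ∈ h.ww := hd' ▸ h.ww_conj hga hd
  have hd'i : x * d' * x = d'⁻¹ := by
    rw [hd', show x * (g * d * g⁻¹) * x = g * ((g⁻¹ * x * g) * d * (g⁻¹ * x * g)) * g⁻¹ by group, e2, hdi]
    group
  have hd'c : d' * x * d'⁻¹ * x⁻¹ = w * x * w⁻¹ * x⁻¹ := by
    rw [← hi, hd', show g * (d * x * d⁻¹ * x⁻¹) * g⁻¹ = g * d * g⁻¹ * (g * x * g⁻¹) * (g * d * g⁻¹)⁻¹ *
      (g * x * g⁻¹)⁻¹ by group, e3]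
  have e' := mul_right_cancel hd'c
  have hz : d'⁻¹ * w ∈ h.ax a := h.cmW_ker hU2 hx hx2 hx1 (mul_mem (inv_mem hd'w) hw) (by
    calc d'⁻¹ * w * x = d'⁻¹ * (w * x * w⁻¹) * w := by group
      _ = d'⁻¹ * (d' * x * d'⁻¹) * w := by rw [e']
      _ = _ := by group)
  obtain ⟨z, hz', rfl⟩ : ∃ z ∈ h.ax a, w = d' * z := ⟨_, hz, by group⟩
  calc x * (d' * z) * x = (x * d' * x) * (x * z * x) := by
        rw [show (x * d' * x) * (x * z * x) = x * d' * (x * x) * z * x by group, hx2]; group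
    _ = d'⁻¹ * z⁻¹ := by rw [hd'i, haxi z hz']
    _ = z⁻¹ * d'⁻¹ := (h.ax_comm (inv_mem hz') (inv_mem hd'w.1)).symm
    _ = _ := (mul_inv_rev _ _).symm

theorem not_comm_ww {x : G} (hx : x ∈ h.cc a b) (hc : ∀ w ∈ h.ww, x * w = w * x) : x = 1 := by
  by_contra hx1
  have hne : h.cc a b ⊓ Subgroup.centralizer (h.ww : Set G) ≠ ⊥ := fun e => hx1 (Subgroup.mem_bot.1
    (e ▸ (⟨hx, Subgroup.mem_centralizer_iff.2 fun w hw => (hc w hw).symm⟩ :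
      x ∈ h.cc a b ⊓ Subgroup.centralizer (h.ww : Set G))))
  obtain ⟨y, ⟨hy, hyc⟩, hy2, hy1⟩ := exists_invol hU2 (inf_le_left.trans h.cc_le_U) hne
  obtain ⟨w, hw, hwA⟩ := h.exists_mem_ww hU2 hy hy2 hy1
  exact hwA (h.cmW_ker hU2 hy hy2 hy1 hw (Subgroup.mem_centralizer_iff.1 hyc w hw))

/-- `cc a b` has at most two elements. -/
theorem cc_eq_pair {u y : G} (hu : u ∈ h.cc a b) (hu2 : u * u = 1) (hu1 : u ≠ 1) (hy : y ∈ h.cc a b) :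
    y = 1 ∨ y = u := by
  by_cases hy1 : y = 1
  · exact Or.inl hy1
  right
  have huniq : ∀ x ∈ h.cc a b, x * x = 1 → x ≠ 1 → x = u := fun x hx hx2 hx1 => by
    have e : x * u = 1 := h.not_comm_ww hU2 (mul_mem hx hu) fun w hw => by
      have e1 := h.inverts_ww hU2 hu hu2 hu1 hw
      have e2 := h.inverts_ww hU2 hx hx2 hx1 (inv_mem hw)
      rw [inv_inv, ← e1] at e2
      calc x * u * w = x * (u * w * u) * x * (x * u) := by
            rw [show x * (u * w * u) * x * (x * u) = x * u * w * u * (x * x) * u by group, hx2, mul_one,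
              mul_assoc _ u u, hu2, mul_one]
        _ = w * (x * u) := by rw [e2]
    rw [eq_inv_of_mul_eq_one_left e, inv_eq_of_mul_eq_one_right hu2]
  have hyu : y * u = u * y := by
    have e := huniq (y * u * y⁻¹) (mul_mem (mul_mem hy hu) (inv_mem hy))
      (by rw [show y * u * y⁻¹ * (y * u * y⁻¹) = y * (u * u) * y⁻¹ by group, hu2]; group)
      (fun e => hu1 (conj_eq_one_iff.1 e))
    calc y * u = y * u * y⁻¹ * y := by group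
      _ = u * y := by rw [e]
  refine huniq y hy (h.not_comm_ww hU2 (mul_mem hy hy) fun w hw => ?_) hy1
  have hya : y • a = a := h.cc_le_left a b hy
  have hz : w⁻¹ * (y * w * y⁻¹) ∈ h.ax a := by
    refine h.cmW_ker hU2 hu hu2 hu1 (mul_mem (inv_mem hw) (h.ww_conj hya hw)) ?_
    have hp := hw.2 u (h.cc_le_U hu)
    have eu : u = y * u * y⁻¹ := by rw [hyu, mul_inv_cancel_right]
    have e1 : y * w * y⁻¹ * u * (y * w * y⁻¹)⁻¹ * u⁻¹ = w * u * w⁻¹ * u⁻¹ := by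
      conv_lhs => rw [eu]
      rw [show y * w * y⁻¹ * (y * u * y⁻¹) * (y * w * y⁻¹)⁻¹ * (y * u * y⁻¹)⁻¹ =
        y * (w * u * w⁻¹ * u⁻¹) * y⁻¹ by group, ← h.ax_comm hp (h.cc_le_U hy), mul_inv_cancel_right]
    have e2 := mul_right_cancel e1
    calc w⁻¹ * (y * w * y⁻¹) * u = w⁻¹ * (y * w * y⁻¹ * u * (y * w * y⁻¹)⁻¹) * (y * w * y⁻¹) := by group
      _ = w⁻¹ * (w * u * w⁻¹) * (y * w * y⁻¹) := by rw [e2]
      _ = _ := by group
  obtain ⟨z, hz', he⟩ : ∃ z ∈ h.ax a, y * w * y⁻¹ = w * z := ⟨_, hz, by group⟩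
  have e3 : y * y * w * (y * y)⁻¹ = w := by
    rw [show y * y * w * (y * y)⁻¹ = y * (y * w * y⁻¹) * y⁻¹ by group, he,
      show y * (w * z) * y⁻¹ = (y * w * y⁻¹) * (y * z * y⁻¹) by group, he,
      ← h.ax_comm hz' (h.cc_le_U hy), mul_inv_cancel_right, mul_assoc, hz'.2.1, mul_one]
  calc y * y * w = y * y * w * (y * y)⁻¹ * (y * y) := by group
    _ = w * (y * y) := by rw [e3]

end Hyp

end Cfsg.Agent.SplitBNRankOne
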