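import Cfsg.Agent.Lib.SplitBNRankOne.Symmetry
import Cfsg.Agent.Lib.SuzukiRankOne.Interface
import Cfsg.Agent.Lib.FTUse.RankOne
import Cfsg.Agent.S0215
import Cfsg.Agent.Lib.Cores.Basic
import Cfsg.Agent.S1131
/-!
# The rank one set-up on a line

* `ax h x` : the involutions (and `1`) of the centre of the copy of `U` at `x`; each fixes only `x`;
* `exists_swapper` : one of them swaps two given points and centralises their `cc`;
* `isPGroup_two` : `U` is a 2-group (given `KernelShape`);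
* `exists_torus` : an element of odd order centralising `cc a b`, transitive on `ax a`.
-/

set_option autoImplicit false
set_option linter.style.haveILetI false

namespace Cfsg.Agent.SplitBNRankOne

open MulAction Cfsg.Agent

universe u v

namespace Hyp

variable {G : Type u} {Ω : Type v} [Group G] [MulAction G Ω] {a b : Ω} {U H : Subgroup G}

/-- The central elements of order at most two of the copy of `U` at `x`. -/
def ax (h : Hyp G Ω a b U H) (x : Ω) : Subgroup G where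
  carrier := {z | z ∈ h.at' x ∧ z * z = 1 ∧ ∀ u ∈ h.at' x, z * u = u * z}
  one_mem' := ⟨one_mem _, one_mul 1, fun u _ => by simp⟩
  mul_mem' := fun {z w} hz hw => ⟨mul_mem hz.1 hw.1, by
      rw [show z * w * (z * w) = z * (w * z) * w by group, hw.2.2 z hz.1,
        show z * (z * w) * w = (z * z) * (w * w) by group, hz.2.1, hw.2.1, one_mul],
    fun u hu => by rw [mul_assoc, hw.2.2 u hu, ← mul_assoc, hz.2.2 u hu, mul_assoc]⟩
  inv_mem' := fun {z} hz => by
    rw [Set.mem_ofPred_eq, inv_eq_of_mul_eq_one_right hz.2.1]; exact hz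

variable (h : Hyp G Ω a b U H)
include h

theorem conj_ax (g : G) {x : Ω} {z : G} : g * z * g⁻¹ ∈ h.ax (g • x) ↔ z ∈ h.ax x := by
  show (_ ∧ _ ∧ _) ↔ (_ ∧ _ ∧ _)
  rw [h.conj_at]
  refine and_congr_right fun _ => and_congr ?_ ⟨fun hz u hu => ?_, fun hz u hu => ?_⟩
  · rw [show g * z * g⁻¹ * (g * z * g⁻¹) = g * (z * z) * g⁻¹ by group, conj_eq_one_iff]
  · have e := hz _ ((h.conj_at g).2 hu)
    apply mul_right_cancel (b := g⁻¹)
    apply mul_left_cancel (a := g)
    simpa [mul_assoc] using e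
  · have e : u = g * (g⁻¹ * u * g) * g⁻¹ := by group
    have e' := hz _ ((h.conj_at g).1 (e ▸ hu))
    calc g * z * g⁻¹ * u = g * (z * (g⁻¹ * u * g)) * g⁻¹ := by group
      _ = g * (g⁻¹ * u * g * z) * g⁻¹ := by rw [e']
      _ = u * (g * z * g⁻¹) := by group

theorem ax_le (x : Ω) : h.ax x ≤ h.at' x := fun _ hz => hz.1

/-- A power of an element of `G_a` lies in `U`. -/
theorem pow_mem_U {g : G} (hg : g ∈ stabilizer G a) : g ^ Nat.card H ∈ U := by
  have hle : H ≤ Subgroup.normalizer (U : Set G) := fun k hk => by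
    have hka : k ∈ stabilizer G a := (h.H_fix k hk).1
    rw [Subgroup.mem_normalizer_iff]
    refine fun v => ⟨h.U_norm k hka v, fun hv => ?_⟩
    simpa [mul_assoc] using h.U_norm k⁻¹ (inv_mem hka) _ hv
  rw [← h.sup, ← SetLike.mem_coe, Subgroup.coe_mul_of_right_le_normalizer_left _ _ hle] at hg
  obtain ⟨u, hu, k, hk, rfl⟩ := hg
  have : ∀ n : ℕ, (u * k) ^ n * (k ^ n)⁻¹ ∈ U := by
    intro n
    induction n with
    | zero => simp
    | succ n ih =>
      rw [pow_succ, pow_succ]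
      have hkn : k ^ n ∈ stabilizer G a := pow_mem (h.H_fix k hk).1 n
      have := U.mul_mem ih (h.U_norm _ hkn u hu)
      rw [show (u * k) ^ n * (u * k) * (k ^ n * k)⁻¹ = (u * k) ^ n * (k ^ n)⁻¹ * (k ^ n * u * (k ^ n)⁻¹) by group]
      exact this
  have := this (Nat.card H)
  rwa [orderOf_dvd_iff_pow_eq_one.1 (Subgroup.orderOf_dvd_natCard H hk), inv_one, mul_one] at this

/-- An involution fixing `x` lies in the copy of `U` at `x`. -/
theorem mem_at_of_sq {x : Ω} {w : G} (hw : w * w = 1) (hwx : w • x = x) : w ∈ h.at' x := by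
  obtain ⟨g, rfl⟩ := h.exists_smul x
  rw [h.mem_at rfl]
  have hs : g⁻¹ * w * g ∈ stabilizer G a := by
    rw [mem_stabilizer_iff, mul_smul, mul_smul, hwx, inv_smul_smul]
  have h1 := h.pow_mem_U hs
  obtain ⟨k, hk⟩ := h.H_odd
  have h2 : (g⁻¹ * w * g) ^ 2 = 1 := by
    rw [pow_two, show g⁻¹ * w * g * (g⁻¹ * w * g) = g⁻¹ * (w * w) * g by group, hw]; group
  rwa [hk, pow_succ, pow_mul, h2, one_pow, one_mul] at h1

theorem finite_omega [Finite G] : Finite Ω :=
  Finite.of_surjective (fun g : G => g • a) fun x => h.exists_smul x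

variable [FaithfulSMul G Ω]

theorem ax_fixed {x y : Ω} {z : G} (hz : z ∈ h.ax x) (hz1 : z ≠ 1) (hzy : z • y = y) : y = x := by
  obtain ⟨g, rfl⟩ := h.exists_smul x
  by_contra hne
  apply hz1
  obtain ⟨w, rfl⟩ : ∃ w, z = g * w * g⁻¹ := ⟨g⁻¹ * z * g, by group⟩
  rw [h.conj_ax] at hz
  have hy : g⁻¹ • y ≠ a := fun e => hne (by rw [← e, smul_inv_smul])
  have hw : w = 1 := h.center_semiregular (h.at_a ▸ hz.1)
    (fun u hu => hz.2.2 u (by rw [h.at_a]; exact hu)) hy (by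
      rw [mul_smul, mul_smul] at hzy
      rw [eq_inv_smul_iff, hzy])
  rw [hw]; group

variable [Finite G]

omit [FaithfulSMul G Ω] in
theorem two_dvd_card_U : 2 ∣ Nat.card U := by
  haveI := h.finite_omega
  obtain ⟨x, hx⟩ : ∃ x : Ω, x ≠ a := ⟨b, h.ne.symm⟩
  have h1 : 2 ∣ Nat.card {y : Ω // y ≠ a} := by
    have e : Nat.card Ω = Nat.card {y : Ω // y ≠ a} + 1 := by
      classical
      rw [← Nat.card_congr (Equiv.optionSubtypeNe a), Finite.card_option]
    obtain ⟨k, hk⟩ := h.degree_odd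
    exact ⟨k, by omega⟩
  letI : MulAction U {y : Ω // y ≠ a} :=
    { smul := fun u y => ⟨(u : G) • y.1, fun e => y.2 (smul_left_cancel (u : G) (e.trans (h.U_le u.2).symm))⟩
      one_smul := fun y => Subtype.ext (one_smul G y.1)
      mul_smul := fun u v y => Subtype.ext (mul_smul (u : G) v y.1) }
  haveI : IsPretransitive U {y : Ω // y ≠ a} := ⟨fun y y' => by
    obtain ⟨u, hu, e⟩ := h.exists_U_smul y.2 y'.2
    exact ⟨⟨u, hu⟩, Subtype.ext e⟩⟩
  rw [← index_stabilizer_of_transitive U (⟨x, hx⟩ : {y : Ω // y ≠ a})] at h1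
  exact h1.trans (Subgroup.index_dvd_card _)

omit [FaithfulSMul G Ω] in
theorem ax_ne_bot : ∃ z ∈ h.ax a, z ≠ 1 := by
  haveI := h.nil
  haveI : Fact (Nat.Prime 2) := ⟨Nat.prime_two⟩
  obtain ⟨S⟩ : Nonempty (Sylow 2 U) := inferInstance
  haveI : (S : Subgroup U).Normal :=
    Sylow.normal_of_normalizerCondition Group.normalizerCondition_of_isNilpotent S
  obtain ⟨⟨z, hz⟩, hz1⟩ := Subgroup.ne_bot_iff_exists_ne_one.1
    (RankOne.Setup.inf_center_ne_bot_of_nilpotent (S.ne_bot_of_dvd_card h.two_dvd_card_U))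
  have hz1' : z ≠ 1 := fun e => hz1 (Subtype.ext e)
  obtain ⟨k, hk⟩ := S.isPGroup' ⟨z, hz.1⟩
  obtain ⟨i, -, hi⟩ := (Nat.dvd_prime_pow Nat.prime_two).1
    (orderOf_dvd_of_pow_eq_one (x := z) (n := 2 ^ k) (by simpa using congrArg Subtype.val hk))
  have hi0 : i ≠ 0 := fun e => hz1' (orderOf_eq_one_iff.1 (by rw [hi, e, pow_zero]))
  obtain ⟨w, hw⟩ : ∃ w, w = z ^ (orderOf z / 2) := ⟨_, rfl⟩
  have hwo : orderOf w = 2 := hw ▸ orderOf_pow_orderOf_div (orderOf_pos z).ne' (hi ▸ dvd_pow_self 2 hi0)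
  have hwG : orderOf (w : G) = 2 := by rw [Subgroup.orderOf_coe, hwo]
  refine ⟨w, ⟨by rw [h.at_a]; exact w.2, Involution.mul_self hwG, fun u hu => ?_⟩, Involution.ne_one hwG⟩
  rw [h.at_a] at hu
  exact (congrArg Subtype.val (Subgroup.mem_center_iff.1 (hw ▸ pow_mem hz.2 _) ⟨u, hu⟩)).symm

/-- Swappers. -/
theorem exists_swapper {x y : Ω} (hxy : x ≠ y) :
    ∃ (c : Ω) (τ : G), τ ∈ h.ax c ∧ τ ≠ 1 ∧ τ • x = y ∧ τ • y = x ∧ h.cc x y ≤ stabilizer G c ∧
      ∀ u ∈ h.cc x y, τ * u = u * τ := by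
  obtain ⟨z, hz, hz1⟩ := h.ax_ne_bot
  have hzb : z • b ≠ b := fun e => h.ne (h.ax_fixed hz hz1 e).symm
  have hzz : z • z • b = b := by rw [← mul_smul, hz.2.1, one_smul]
  have hza : z • a = a := h.at_le a (h.ax_le a hz)
  have hCz : ∀ u ∈ h.cc a b, z * u = u * z := fun u hu => hz.2.2 u hu.1
  have hfix : h.cc a b ≤ stabilizer G (z • b) := fun u hu => by
    rw [mem_stabilizer_iff, ← mul_smul, ← hCz u hu, mul_smul, show u • b = b from hu.2]
  have e := h.cc_eq_of_fix h.ne hzb.symm (h.cc_le_right a b) hfix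
  obtain ⟨g, rfl, rfl⟩ := h.exists_pair hzb.symm hxy
  have he : g * z * g⁻¹ * (g * z * g⁻¹) = 1 := by
    rw [show g * z * g⁻¹ * (g * z * g⁻¹) = g * (z * z) * g⁻¹ by group, hz.2.1]; group
  refine ⟨g • a, g * z * g⁻¹, (h.conj_ax g).2 hz, fun e => hz1 (conj_eq_one_iff.1 e), ?_, ?_, ?_, ?_⟩
  · rw [mul_smul, mul_smul, inv_smul_smul]
  · rw [mul_smul, mul_smul, inv_smul_smul, hzz]
  · intro u hu
    have e' : u = g * (g⁻¹ * u * g) * g⁻¹ := by group
    have hu' : g⁻¹ * u * g ∈ h.cc a b := e ▸ (h.conj_cc g).1 (e' ▸ hu)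
    rw [e', mem_stabilizer_iff, mul_smul, mul_smul, inv_smul_smul,
      show (g⁻¹ * u * g) • a = a from h.cc_le_left a b hu']
  · intro u hu
    have e' : u = g * (g⁻¹ * u * g) * g⁻¹ := by group
    have hu' : g⁻¹ * u * g ∈ h.cc a b := e ▸ (h.conj_cc g).1 (e' ▸ hu)
    calc g * z * g⁻¹ * u = g * (z * (g⁻¹ * u * g)) * g⁻¹ := by group
      _ = g * (g⁻¹ * u * g * z) * g⁻¹ := by rw [hCz _ hu']
      _ = u * (g * z * g⁻¹) := by group

/-- `ax a` has two involutions. -/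
theorem exists_two_ax [IsSimpleGroup G] : ∃ z w, z ∈ h.ax a ∧ w ∈ h.ax a ∧ z ≠ 1 ∧ w ≠ 1 ∧ z ≠ w := by
  obtain ⟨z, hz, hz1⟩ := h.ax_ne_bot
  by_contra hcon
  push Not at hcon
  have hza : z • a = a := h.at_le a (h.ax_le a hz)
  have hiso : Cfsg.IsIsolatedInvolution z := by
    refine ⟨orderOf_eq_prime (by rw [pow_two]; exact hz.2.1) hz1, fun g hc => ?_⟩
    have hg : g * z * g⁻¹ ∈ h.ax (g • a) := (h.conj_ax g).2 hz
    have h1 : (g * z * g⁻¹) • a = a := h.ax_fixed hz hz1 (by rw [← mul_smul, hc.eq, mul_smul, hza])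
    have hga : a = g • a := h.ax_fixed hg (fun e => hz1 (conj_eq_one_iff.1 e)) h1
    rw [← hga] at hg
    exact (hcon z (g * z * g⁻¹) hz hg hz1 (fun e => hz1 (conj_eq_one_iff.1 e))).symm
  haveI : Fact (Nat.Prime 2) := ⟨Nat.prime_two⟩
  have hcomm := ZStar.zStar_of_brauerSuzuki ZStar.uniqueInvolution hiso
  have e : Cfsg.pPrimeCore 2 G = ⊥ := by
    refine (Subgroup.Normal.eq_bot_or_eq_top inferInstance).resolve_right fun e => ?_
    have h1 := Cores.coprime_card_pPrimeCore (G := G) 2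
    rw [e, Subgroup.card_top] at h1
    exact Nat.not_even_iff_odd.2 (Nat.coprime_two_right.1 h1)
      (even_iff_two_dvd.2 (hiso.1 ▸ orderOf_dvd_natCard z))
  obtain ⟨g, hg⟩ := h.exists_smul b
  have e1 := hcomm g
  rw [e, Subgroup.mem_bot] at e1
  have : z * g = g * z := by
    calc z * g = (z * g * z⁻¹ * g⁻¹) * (g * z) := by group
      _ = g * z := by rw [e1, one_mul]
  refine h.ne (h.ax_fixed hz hz1 (y := b) ?_).symm
  rw [← hg, ← mul_smul, this, mul_smul, hza]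

end Hyp

end Cfsg.Agent.SplitBNRankOne
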