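import Cfsg.Agent.Lib.SplitBNRankOne.Special
import Cfsg.Agent.Lib.SuzukiRankOne.StronglyEmbedded
import Cfsg.Agent.Lib.SuzukiRankOne.Kernel.Main
import Cfsg.Agent.Lib.BN.Parabolic
import Cfsg.Agent.S0322
/-!
# Simple strongly split (B,N)-pairs of rank one in odd degree

* `Hyp.classify` : a simple group with the standing hypotheses is `PSL₂`, Suzuki or `PSU₃`;
* `hyp_of_bn` : a strongly split (B,N)-pair of rank one gives the standing hypotheses.
-/

set_option autoImplicit false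
set_option linter.style.haveILetI false

namespace Cfsg.Agent.SplitBNRankOne

open MulAction Cfsg.Agent

universe u v

namespace Hyp

variable {G : Type u} {Ω : Type u} [Group G] [MulAction G Ω] [FaithfulSMul G Ω] [Finite G]
  {a b : Ω} {U H : Subgroup G} (h : Hyp G Ω a b U H)
include h

theorem classify [IsSimpleGroup G] :
    (∃ (F : Type) (_ : Field F) (_ : Fintype F), CharP F 2 ∧ 4 ≤ Fintype.card F ∧
        Nonempty (G ≃* Matrix.ProjectiveSpecialLinearGroup (Fin 2) F)) ∨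
      Cfsg.IsSuzuki G ∨
      (∃ (F : Type) (_ : Field F) (_ : Fintype F) (q : ℕ), Fintype.card F = q ^ 2 ∧ Even q ∧ 4 ≤ q ∧
        Nonempty (G ≃* Cfsg.PSU 3 F q)) := by
  have hU2 : IsPGroup 2 U := h.isPGroup_two SuzukiRankOne.kernelShape
  have hC := h.cc_eq_bot hU2
  obtain ⟨c, t, ht, ht1, hta, htb, -, -⟩ := h.exists_swapper h.ne
  obtain ⟨z, w, hz, hw, hz1, hw1, hzw⟩ := h.exists_two_ax
  refine SuzukiRankOne.classify_simple SuzukiRankOne.kernelShape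
    (a := a) (t := t) (Q := U) ⟨h.two, ht.2.1, ht1, fun e => h.ne ?_, h.U_le, h.U_norm, ?_, ?_, ?_, ?_⟩
    ⟨z, w, hz1, hw1, hzw, hz.2.1, hw.2.1, hz.2.2 w hw.1⟩
  · rw [mem_stabilizer_iff, hta] at e; exact e.symm
  · rw [hta, Subgroup.eq_bot_iff_forall]
    intro x hx
    have hxc : x ∈ h.cc a b := h.mem_cc_of_fix hx.1 hx.2
    rwa [hC, Subgroup.mem_bot] at hxc
  · rw [hta]
    refine le_antisymm (sup_le h.U_le inf_le_left) ?_
    calc stabilizer G a = U ⊔ H := h.sup.symm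
      _ ≤ _ := sup_le_sup_left (fun k hk => Subgroup.mem_inf.2 (h.H_fix k hk)) U
  · exact even_iff_two_dvd.2 h.two_dvd_card_U
  · rw [hta, Nat.odd_iff, ← Nat.not_even_iff, even_iff_two_dvd]
    intro hd
    haveI : Fact (Nat.Prime 2) := ⟨Nat.prime_two⟩
    obtain ⟨⟨x, hx⟩, hx2⟩ := exists_prime_orderOf_dvd_card' 2 hd
    rw [Subgroup.orderOf_mk] at hx2
    have hxU : x ∈ U := h.at_a ▸ h.mem_at_of_sq (Involution.mul_self hx2) hx.1
    have hxc : x ∈ h.cc a b := h.mem_cc_of_fix hxU hx.2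
    rw [hC, Subgroup.mem_bot] at hxc
    exact Involution.ne_one hx2 hxc

end Hyp

variable {G : Type u} [Group G]

theorem hyp_of_bn (P : Cfsg.BNPair G) (hrank : P.rank = 1) (U : Subgroup G) (hUB : U ≤ P.B)
    (hUn : (U.subgroupOf P.B).Normal) (hUnil : Group.IsNilpotent U) (hsplit : U ⊔ (P.B ⊓ P.N) = P.B)
    (hind : Odd P.B.index) (hH : Odd (Nat.card ↥(P.B ⊓ P.N))) :
    ∃ b : G ⧸ P.B, Hyp G (G ⧸ P.B) ((1 : G) : G ⧸ P.B) b U (P.B ⊓ P.N) := by
  obtain ⟨s, hs⟩ : ∃ s, P.S = {s} := by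
    unfold Cfsg.BNPair.rank at hrank
    rw [Nat.card_coe_set_eq, Set.ncard_eq_one] at hrank
    exact hrank
  have hsS : s ∈ P.S := hs ▸ rfl
  have hsB : s ∉ P.B := fun h' =>
    BN.sigma_ne_one P ⟨s, hsS⟩ ((BN.wOf_eq_one_iff P (P.subset hsS)).2 h')
  have hst : ∀ g : G, g ∈ stabilizer G ((1 : G) : G ⧸ P.B) ↔ g ∈ P.B := fun g => by
    rw [mem_stabilizer_iff, MulAction.Quotient.smul_mk, QuotientGroup.eq, smul_eq_mul, mul_one, mul_one,
      inv_mem_iff]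
  refine ⟨(s : G), ⟨S0322.result P hrank, fun e => hsB ?_, fun u hu => (hst u).2 (hUB hu),
    fun g hg u hu => hUn.conj_mem ⟨u, hUB hu⟩ hu ⟨g, (hst g).1 hg⟩, hUnil,
    Subgroup.ext fun g => by rw [hsplit, hst], fun k hk => ⟨(hst k).2 hk.1, ?_⟩, hH, ?_⟩⟩
  · rwa [QuotientGroup.eq, inv_one, one_mul] at e
  · rw [MulAction.Quotient.smul_mk, QuotientGroup.eq, smul_eq_mul]
    have := P.conj_mem s⁻¹ (inv_mem (P.subset hsS)) k hk
    rw [inv_inv] at this
    rw [mul_inv_rev, show s⁻¹ * k⁻¹ * s = (s⁻¹ * k * s)⁻¹ by group]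
    exact inv_mem this
  · rwa [← Subgroup.index_eq_card]

theorem faithful_cosets [IsSimpleGroup G] (P : Cfsg.BNPair G) (hrank : P.rank = 1) :
    FaithfulSMul G (G ⧸ P.B) := by
  have hB : P.B ≠ ⊤ := fun e => by
    obtain ⟨s, hs⟩ : ∃ s, P.S = {s} := by
      unfold Cfsg.BNPair.rank at hrank
      rw [Nat.card_coe_set_eq, Set.ncard_eq_one] at hrank
      exact hrank
    have hsS : s ∈ P.S := hs ▸ rfl
    exact BN.sigma_ne_one P ⟨s, hsS⟩ ((BN.wOf_eq_one_iff P (P.subset hsS)).2 (e ▸ Subgroup.mem_top s))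
  have hcore : P.B.normalCore = ⊥ :=
    (P.B.normalCore_normal.eq_bot_or_eq_top).resolve_right fun e => hB (top_le_iff.1 (e ▸ P.B.normalCore_le))
  rw [Subgroup.normalCore_eq_ker, MonoidHom.ker_eq_bot_iff] at hcore
  exact ⟨fun {g g'} e => hcore (Equiv.ext e)⟩

end Cfsg.Agent.SplitBNRankOne
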