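import Cfsg.Agent.Lib.SplitBNRankOne.Line
import Cfsg.Agent.Lib.TwoFusion.Transfer
/-!
# The group of a line

* `Hyp.setup_line` : the normaliser of `cc a b` induces a rank one set-up on the line of `a, b`;
* `Hyp.isPGroup_two` : so `U` is a 2-group (given `KernelShape`);
* `Hyp.exists_torus` : an element of odd order centralising `cc a b` acting on the line as a
  generator of the inverted torus.
-/

set_option autoImplicit false
set_option linter.style.haveILetI false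

namespace Cfsg.Agent.SplitBNRankOne

open MulAction Cfsg.Agent

universe u v

namespace Hyp

variable {G : Type u} {Ω : Type v} [Group G] [MulAction G Ω] {a b : Ω} {U H : Subgroup G}

/-- The normaliser of `cc a b`. -/
def nn (h : Hyp G Ω a b U H) : Subgroup G := Subgroup.normalizer (h.cc a b : Set G)

/-- The points of the line of `a` and `b`. -/
abbrev Pt (h : Hyp G Ω a b U H) := {x : Ω // h.cc a b ≤ stabilizer G x}

theorem smul_pt (h : Hyp G Ω a b U H) {g : G} (hg : g ∈ h.nn) {x : Ω}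
    (hx : h.cc a b ≤ stabilizer G x) : h.cc a b ≤ stabilizer G (g • x) := fun u hu => by
  have h1 : g⁻¹ * u * g ∈ h.cc a b := (Subgroup.mem_normalizer_iff''.1 hg u).1 hu
  have h2 : (g⁻¹ * u * g) • x = x := hx h1
  rwa [mul_smul, mul_smul, inv_smul_eq_iff] at h2

/-- The action of the normaliser on the line. -/
def phi (h : Hyp G Ω a b U H) : h.nn →* Equiv.Perm h.Pt where
  toFun g :=
    { toFun := fun x => ⟨(g : G) • x.1, h.smul_pt g.2 x.2⟩
      invFun := fun x => ⟨((g⁻¹ : h.nn) : G) • x.1, h.smul_pt (g⁻¹).2 x.2⟩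
      left_inv := fun x => Subtype.ext (by simp)
      right_inv := fun x => Subtype.ext (by simp) }
  map_one' := Equiv.ext fun x => Subtype.ext (one_smul G x.1)
  map_mul' g g' := Equiv.ext fun x => Subtype.ext (mul_smul (g : G) (g' : G) x.1)

/-- The point `a` of the line. -/
def pa (h : Hyp G Ω a b U H) : h.Pt := ⟨a, h.cc_le_left a b⟩

/-- The point `b` of the line. -/
def pb (h : Hyp G Ω a b U H) : h.Pt := ⟨b, h.cc_le_right a b⟩

/-- The image of `U` on the line. -/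
def qq (h : Hyp G Ω a b U H) : Subgroup h.phi.range := (U.subgroupOf h.nn).map h.phi.rangeRestrict

variable (h : Hyp G Ω a b U H)
include h

theorem smul_range (g : h.nn) (x : h.Pt) : (h.phi.rangeRestrict g) • x = ⟨(g : G) • x.1, h.smul_pt g.2 x.2⟩ :=
  rfl

theorem rangeRestrict_eq_one {g : h.nn} :
    h.phi.rangeRestrict g = 1 ↔ ∀ x : Ω, h.cc a b ≤ stabilizer G x → (g : G) • x = x := by
  constructor
  · intro e x hx
    exact congrArg Subtype.val (Equiv.ext_iff.1 (congrArg Subtype.val e) ⟨x, hx⟩)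
  · intro hg
    exact Subtype.ext (Equiv.ext fun x => Subtype.ext (hg x.1 x.2))

variable [FaithfulSMul G Ω] [Finite G]

theorem mem_nn {g : G} {x y : Ω} (hxy : x ≠ y) (hx : h.cc a b ≤ stabilizer G x)
    (hy : h.cc a b ≤ stabilizer G y) (hgx : h.cc a b ≤ stabilizer G (g • x))
    (hgy : h.cc a b ≤ stabilizer G (g • y)) : g ∈ h.nn := by
  refine Subgroup.mem_normalizer_fintype fun u hu => ?_
  rw [SetLike.mem_coe, ← h.cc_eq_of_fix h.ne (fun e => hxy (smul_left_cancel g e)) hgx hgy, h.conj_cc]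
  rw [SetLike.mem_coe, ← h.cc_eq_of_fix h.ne hxy hx hy] at hu
  exact hu

omit [FaithfulSMul G Ω] [Finite G] in
theorem mem_cc_of_fix {u : G} (hu : u ∈ U) (hub : u • b = b) : u ∈ h.cc a b :=
  ⟨by rw [h.at_a]; exact hu, hub⟩

omit [FaithfulSMul G Ω] in
/-- Central involutions normalise `cc a b`. -/
theorem ax_le_nn : h.ax a ≤ h.nn := fun z hz => by
  have hc : ∀ u ∈ h.cc a b, z * u = u * z := fun u hu => hz.2.2 u hu.1
  refine Subgroup.mem_normalizer_fintype fun u hu => ?_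
  rwa [SetLike.mem_coe, hc u hu, mul_inv_cancel_right]

theorem exists_tau : ∃ τ : h.nn, (τ : G) * τ = 1 ∧ (τ : G) • a = b ∧ (τ : G) • b = a ∧
    ∀ u ∈ h.cc a b, (τ : G) * u = u * τ := by
  obtain ⟨c, τ, hτ, -, h1, h2, -, hcomm⟩ := h.exists_swapper h.ne
  refine ⟨⟨τ, h.mem_nn h.ne (h.cc_le_left a b) (h.cc_le_right a b) ?_ ?_⟩, hτ.2.1, h1, h2, hcomm⟩
  · rw [h1]; exact h.cc_le_right a b
  · rw [h2]; exact h.cc_le_left a b

theorem setup_line {τ : h.nn} (hτ : (τ : G) * τ = 1) (hτa : (τ : G) • a = b) :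
    Cfsg.IsRankOneSetup h.phi.range h.Pt h.pa (h.phi.rangeRestrict τ) h.qq := by
  haveI := h.finite_omega
  have htb : h.phi.rangeRestrict τ • h.pa = h.pb := Subtype.ext hτa
  have hne : h.pa ≠ h.pb := fun e => h.ne (congrArg Subtype.val e)
  refine ⟨is_two_pretransitive_iff.2 fun {x y x' y'} hxy hxy' => ?_, ?_, fun e => ?_, fun e => ?_, ?_, ?_,
    ?_, ?_, ?_, ?_⟩
  · obtain ⟨g, hgx, hgy⟩ := h.exists_pair (fun e => hxy (Subtype.ext e)) (fun e => hxy' (Subtype.ext e))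
    have hg : g ∈ h.nn := h.mem_nn (fun e => hxy (Subtype.ext e)) x.2 y.2 (hgx ▸ x'.2) (hgy ▸ y'.2)
    exact ⟨h.phi.rangeRestrict ⟨g, hg⟩, Subtype.ext hgx, Subtype.ext hgy⟩
  · rw [← map_mul, show τ * τ = 1 from Subtype.ext hτ, map_one]
  · rw [e, one_smul] at htb; exact hne htb
  · rw [mem_stabilizer_iff, htb] at e; exact hne e.symm
  · rintro _ ⟨u, hu, rfl⟩
    exact Subtype.ext (h.U_le hu : (u : G) • a = a)
  · intro x hx y hy
    obtain ⟨⟨g, hg⟩, rfl⟩ := h.phi.rangeRestrict_surjective x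
    obtain ⟨u, hu, rfl⟩ := hy
    refine ⟨⟨g, hg⟩ * u * ⟨g, hg⟩⁻¹, h.U_norm g (congrArg Subtype.val hx) u hu, ?_⟩
    rw [map_mul, map_mul, map_inv]
  · rw [eq_bot_iff]
    rintro _ ⟨⟨u, hu, rfl⟩, hfix⟩
    rw [SetLike.mem_coe, htb] at hfix
    rw [Subgroup.mem_bot, h.rangeRestrict_eq_one]
    exact fun x hx => hx (h.mem_cc_of_fix hu (congrArg Subtype.val hfix))
  · refine le_antisymm (sup_le ?_ inf_le_left) fun x hx => ?_
    · rintro _ ⟨u, hu, rfl⟩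
      exact Subtype.ext (h.U_le hu : (u : G) • a = a)
    obtain ⟨⟨g, hg⟩, rfl⟩ := h.phi.rangeRestrict_surjective x
    have hga : g • a = a := congrArg Subtype.val hx
    have hgb : h.cc a b ≤ stabilizer G (g • b) := h.smul_pt hg (h.cc_le_right a b)
    obtain ⟨u, hu, hub⟩ := h.exists_U_smul h.ne.symm (y := g • b)
      (fun e => h.ne (smul_left_cancel g (hga.trans e.symm)))
    have hun : u ∈ h.nn := h.mem_nn h.ne (h.cc_le_left a b) (h.cc_le_right a b)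
      (by rw [show u • a = a from h.U_le hu]; exact h.cc_le_left a b) (hub ▸ hgb)
    rw [show h.phi.rangeRestrict ⟨g, hg⟩ = h.phi.rangeRestrict ⟨u, hun⟩ *
      h.phi.rangeRestrict (⟨u, hun⟩⁻¹ * ⟨g, hg⟩) by rw [← map_mul, mul_inv_cancel_left]]
    refine Subgroup.mul_mem_sup ⟨⟨u, hun⟩, hu, rfl⟩ ⟨Subtype.ext ?_, ?_⟩
    · show (u⁻¹ * g) • a = a
      rw [mul_smul, hga, inv_smul_eq_iff, show u • a = a from h.U_le hu]
    · show h.phi.rangeRestrict (⟨u, hun⟩⁻¹ * ⟨g, hg⟩) • (h.phi.rangeRestrict τ • h.pa) = _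
      rw [htb]
      refine Subtype.ext ?_
      show (u⁻¹ * g) • b = b
      rw [mul_smul, ← hub, inv_smul_smul]
  · obtain ⟨z, hz, hz1⟩ := h.ax_ne_bot
    rw [even_iff_two_dvd]
    have hm : h.phi.rangeRestrict ⟨z, h.ax_le_nn hz⟩ ∈ h.qq := ⟨_, (h.at_a ▸ hz.1 : z ∈ U), rfl⟩
    have e : orderOf (h.phi.rangeRestrict ⟨z, h.ax_le_nn hz⟩) = 2 := by
      refine orderOf_eq_prime ?_ fun e => h.ne (h.ax_fixed hz hz1
        (h.rangeRestrict_eq_one.1 e b (h.cc_le_right a b))).symm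
      rw [pow_two, ← map_mul, show (⟨z, h.ax_le_nn hz⟩ : h.nn) * ⟨z, h.ax_le_nn hz⟩ = 1 from
        Subtype.ext hz.2.1, map_one]
    exact e ▸ Subgroup.orderOf_dvd_natCard _ hm
  · rw [Nat.odd_iff, ← Nat.not_even_iff, even_iff_two_dvd]
    intro hd
    haveI : Fact (Nat.Prime 2) := ⟨Nat.prime_two⟩
    obtain ⟨⟨x, hx⟩, hx2⟩ := exists_prime_orderOf_dvd_card' 2 hd
    obtain ⟨⟨g, hg⟩, rfl⟩ := h.phi.rangeRestrict_surjective x
    have hxb : h.phi.rangeRestrict ⟨g, hg⟩ • (h.phi.rangeRestrict τ • h.pa) = h.phi.rangeRestrict τ • h.pa := hx.2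
    rw [htb] at hxb
    have hga : g • a = a := congrArg Subtype.val hx.1
    have hgb : g • b = b := congrArg Subtype.val hxb
    have hk : h.phi.rangeRestrict (⟨g, hg⟩ ^ Nat.card H) = 1 :=
      h.rangeRestrict_eq_one.2 fun x hx => hx (h.mem_cc_of_fix (h.pow_mem_U hga)
        ((stabilizer G b).pow_mem hgb _))
    rw [Subgroup.orderOf_mk] at hx2
    rw [map_pow, ← orderOf_dvd_iff_pow_eq_one, hx2] at hk
    exact Nat.not_even_iff_odd.2 h.H_odd (even_iff_two_dvd.2 hk)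

variable [IsSimpleGroup G]

theorem twoInv_line : SuzukiRankOne.TwoInvolutions h.phi.range := by
  obtain ⟨z, w, hz, hw, hz1, hw1, hne⟩ := h.exists_two_ax
  have key : ∀ {x : G} (hx : x ∈ h.ax a), x ≠ 1 → h.phi.rangeRestrict ⟨x, h.ax_le_nn hx⟩ ≠ 1 :=
    fun hx hx1 e => h.ne (h.ax_fixed hx hx1 (h.rangeRestrict_eq_one.1 e b (h.cc_le_right a b))).symm
  refine ⟨_, _, key hz hz1, key hw hw1, ?_, ?_, ?_, ?_⟩
  · intro e
    have h1 : z * w ≠ 1 := fun e' => hne (by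
      rw [eq_inv_of_mul_eq_one_left e', inv_eq_of_mul_eq_one_right hw.2.1])
    refine key (mul_mem hz hw) h1 ?_
    rw [show (⟨z * w, h.ax_le_nn (mul_mem hz hw)⟩ : h.nn) = ⟨z, h.ax_le_nn hz⟩ * ⟨w, h.ax_le_nn hw⟩ from rfl,
      map_mul, e, ← map_mul, show (⟨w, h.ax_le_nn hw⟩ : h.nn) * ⟨w, h.ax_le_nn hw⟩ = 1 from
        Subtype.ext hw.2.1, map_one]
  · rw [← map_mul, show (⟨z, _⟩ : h.nn) * ⟨z, h.ax_le_nn hz⟩ = 1 from Subtype.ext hz.2.1, map_one]
  · rw [← map_mul, show (⟨w, _⟩ : h.nn) * ⟨w, h.ax_le_nn hw⟩ = 1 from Subtype.ext hw.2.1, map_one]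
  · rw [← map_mul, ← map_mul,
      show (⟨z, h.ax_le_nn hz⟩ : h.nn) * ⟨w, h.ax_le_nn hw⟩ = ⟨w, h.ax_le_nn hw⟩ * ⟨z, h.ax_le_nn hz⟩ from
        Subtype.ext (hz.2.2 w hw.1)]

/-- `U` is a 2-group. -/
theorem isPGroup_two (hK : SuzukiRankOne.KernelShape.{v, v}) : IsPGroup 2 U := by
  obtain ⟨τ, hτ, hτa, -, -⟩ := h.exists_tau
  haveI := h.finite_omega
  obtain ⟨hQ, -⟩ := hK h.phi.range h.Pt h.pa (h.phi.rangeRestrict τ) h.qq (h.setup_line hτ hτa) h.twoInv_line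
  haveI := h.nil
  refine IsPGroup.of_card (n := (Nat.card U).primeFactorsList.length) ?_
  by_contra hne
  obtain ⟨p, hp, hp2, hd⟩ : ∃ p, p.Prime ∧ p ≠ 2 ∧ p ∣ Nat.card U := by
    by_contra hc
    push Not at hc
    exact hne (Nat.eq_prime_pow_of_unique_prime_dvd Nat.card_pos.ne' fun {q} hq hqd => by
      by_contra h'
      exact hc q hq h' hqd)
  haveI := Fact.mk hp
  obtain ⟨R⟩ : Nonempty (Sylow p U) := inferInstance
  haveI hRn : (R : Subgroup U).Normal :=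
    Sylow.normal_of_normalizerCondition Group.normalizerCondition_of_isNilpotent R
  haveI := Sylow.unique_of_normal R hRn
  set C := (h.cc a b).subgroupOf U with hC
  have hRC : (R : Subgroup U) ≤ C := by
    by_contra hle
    have hlt : C < C ⊔ R := lt_of_le_of_ne le_sup_left fun e => hle (e ▸ le_sup_right)
    haveI : Group.IsNilpotent (C ⊔ R : Subgroup U) := inferInstance
    have hprop : C.subgroupOf (C ⊔ R) < ⊤ := lt_top_iff_ne_top.2 fun e =>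
      hlt.ne (le_antisymm le_sup_left (Subgroup.subgroupOf_eq_top.1 e))
    obtain ⟨⟨u, huM⟩, hun, huC⟩ := SetLike.exists_of_lt (Group.normalizerCondition_of_isNilpotent _ hprop)
    rw [← SetLike.mem_coe, Subgroup.mul_normal] at huM
    obtain ⟨c, hc, r, hr, hcr⟩ := huM
    have hcG : (c : G) ∈ h.cc a b := hc
    have hrC : (r : G) ∉ h.cc a b := fun hrc => huC (by
      rw [Subgroup.mem_subgroupOf]
      show u ∈ C
      rw [← hcr]
      exact C.mul_mem hc hrc)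
    have hrn : (r : G) ∈ h.nn := by
      have hu : (u : G) ∈ h.nn := Subgroup.mem_normalizer_fintype fun x hx => by
        have h1 := (Subgroup.mem_normalizer_iff.1 hun ⟨⟨x, h.at_a ▸ hx.1⟩, Subgroup.mem_sup_left hx⟩).1 hx
        exact h1
      have := h.nn.mul_mem (h.nn.inv_mem (Subgroup.le_normalizer hcG : (c : G) ∈ h.nn)) hu
      rwa [← hcr, Subgroup.coe_mul, inv_mul_cancel_left] at this
    apply hrC
    refine h.mem_cc_of_fix r.2 ((h.rangeRestrict_eq_one (g := ⟨r, hrn⟩)).1 ?_ b (h.cc_le_right a b))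
    obtain ⟨i, hi⟩ := R.isPGroup' ⟨r, hr⟩
    obtain ⟨j, hj⟩ := hQ ⟨_, ⟨⟨r, hrn⟩, r.2, rfl⟩⟩
    refine TwoFusion.eq_one_of_pow_eq_one_of_coprime (m := p ^ i) (n := 2 ^ j) ?_
      (congrArg Subtype.val hj) (Nat.Coprime.pow _ _ ((Nat.coprime_primes hp Nat.prime_two).2 hp2))
    rw [← map_pow, show (⟨r, hrn⟩ : h.nn) ^ p ^ i = 1 from Subtype.ext
      (congrArg (fun w : (R : Subgroup U) => ((w : U) : G)) hi), map_one]
  obtain ⟨⟨r, hr⟩, hr1⟩ := Subgroup.ne_bot_iff_exists_ne_one.1 (R.ne_bot_of_dvd_card hd)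
  apply hr1
  refine Subtype.ext (Subtype.ext (FaithfulSMul.eq_of_smul_eq_smul fun x : Ω => ?_))
  show (r : G) • x = (1 : G) • x
  rw [one_smul]
  by_cases hx : x = a
  · rw [hx]; exact h.U_le r.2
  obtain ⟨u, hu, rfl⟩ := h.exists_U_smul h.ne.symm hx
  have h1 : ((⟨u, hu⟩ : U)⁻¹ * r * ⟨u, hu⟩) ∈ C := hRC (by
    simpa using hRn.conj_mem r hr (⟨u, hu⟩ : U)⁻¹)
  have h2 : (u⁻¹ * (r : G) * u) • b = b := h1.2
  rwa [mul_smul, mul_smul, inv_smul_eq_iff] at h2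

/-- The torus of the line. -/
theorem exists_torus : ∃ k : h.nn, (k : G) • a = a ∧ (k : G) • b = b ∧ Odd (orderOf (k : G)) ∧
    (∀ u ∈ h.cc a b, (k : G) * u = u * k) ∧
    (∀ i : ℕ, h.phi.rangeRestrict k ^ i ≠ 1 → ∀ u ∈ U, u ∈ h.nn →
      (k : G) ^ i * u = u * (k : G) ^ i → u ∈ h.cc a b) ∧
    ∀ z ∈ h.ax a, z ≠ 1 → ∀ w ∈ h.ax a, w ≠ 1 → ∃ i : ℕ, (k : G) ^ i * z * ((k : G) ^ i)⁻¹ = w := by
  haveI := h.finite_omega
  obtain ⟨τ, hτ, hτa, hτb, hτc⟩ := h.exists_tau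
  have hS := h.setup_line hτ hτa
  have h2 := h.twoInv_line
  obtain ⟨k₀, hk₀, hz, -, -⟩ := FTUse.RankOne.main hS h2 S1131.oddSolvable
  obtain ⟨g, hgk⟩ := h.phi.rangeRestrict_surjective k₀
  have htb : h.phi.rangeRestrict τ • h.pa = h.pb := Subtype.ext hτa
  have hk₀b : k₀ • (h.phi.rangeRestrict τ • h.pa) = h.phi.rangeRestrict τ • h.pa := hk₀.1.2
  rw [htb, ← hgk] at hk₀b
  have hga : (g : G) • a = a := congrArg Subtype.val (hgk.symm ▸ hk₀.1.1 : h.phi.rangeRestrict g • h.pa = h.pa)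
  have hgb : (g : G) • b = b := congrArg Subtype.val hk₀b
  have hinv := ((RankOne.Setup.mem_kk hS).1 hk₀).2
  obtain ⟨h₀, hh₀⟩ : ∃ h₀ : h.nn, h₀ = g⁻¹ * (τ * g * τ) := ⟨_, rfl⟩
  have hh₀k : h.phi.rangeRestrict h₀ = k₀⁻¹ * k₀⁻¹ := by
    rw [hh₀, map_mul, map_inv, map_mul, map_mul, hgk, hinv]
  have hh₀a : (h₀ : G) • a = a := by
    rw [hh₀]
    show ((g : G)⁻¹ * ((τ : G) * g * τ)) • a = a
    rw [mul_smul, mul_smul, mul_smul, hτa, hgb, hτb, inv_smul_eq_iff, hga]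
  have hh₀b : (h₀ : G) • b = b := by
    rw [hh₀]
    show ((g : G)⁻¹ * ((τ : G) * g * τ)) • b = b
    rw [mul_smul, mul_smul, mul_smul, hτb, hga, hτa, inv_smul_eq_iff, hgb]
  have hh₀c : ∀ u ∈ h.cc a b, (h₀ : G) * u = u * h₀ := fun u hu => by
    have hu' : (g : G) * u * (g : G)⁻¹ ∈ h.cc a b := (Subgroup.mem_normalizer_iff.1 g.2 u).1 hu
    have e := hτc _ hu'
    rw [hh₀]
    show (g : G)⁻¹ * ((τ : G) * g * τ) * u = u * ((g : G)⁻¹ * ((τ : G) * g * τ))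
    calc (g : G)⁻¹ * ((τ : G) * g * τ) * u = (g : G)⁻¹ * τ * g * ((τ : G) * u) := by group
      _ = (g : G)⁻¹ * ((τ : G) * ((g : G) * u * (g : G)⁻¹)) * g * τ := by rw [hτc u hu]; group
      _ = u * ((g : G)⁻¹ * ((τ : G) * g * τ)) := by rw [e]; group
  obtain ⟨v, o, ho, hvo⟩ := Nat.exists_eq_pow_mul_and_not_dvd (orderOf_pos (h₀ : G)).ne' 2 (by norm_num)
  obtain ⟨k, hk⟩ : ∃ k, k = h₀ ^ 2 ^ v := ⟨_, rfl⟩
  have hkG : (k : G) = (h₀ : G) ^ 2 ^ v := by rw [hk, SubmonoidClass.coe_pow]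
  have hkr : ∃ j : ℕ, (h.phi.rangeRestrict k) ^ j = k₀⁻¹ := by
    rw [hk, map_pow, hh₀k, ← pow_two, ← pow_mul, ← pow_succ']
    exact exists_pow_eq_self_of_coprime (Nat.Coprime.pow_left _ (Nat.coprime_two_left.2
      (hS.odd_card.of_dvd_nat (Subgroup.orderOf_dvd_natCard _ (inv_mem hk₀.1)))))
  have hKK : ∀ x : h.phi.range, x ∈ Subgroup.zpowers k₀ → ∃ i : ℕ, h.phi.rangeRestrict k ^ i = x := by
    intro x hx
    rw [← Subgroup.zpowers_inv, ← mem_powers_iff_mem_zpowers] at hx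
    obtain ⟨i, rfl⟩ := hx
    obtain ⟨j, hj⟩ := hkr
    exact ⟨j * i, by rw [pow_mul, hj]⟩
  have hkK : ∀ i : ℕ, h.phi.rangeRestrict k ^ i ∈ Cfsg.invertedBy
      (stabilizer h.phi.range h.pa ⊓ stabilizer h.phi.range (h.phi.rangeRestrict τ • h.pa))
      (h.phi.rangeRestrict τ) := fun i => by
    rw [← hz, hk, map_pow, hh₀k]
    exact pow_mem (pow_mem (mul_mem (inv_mem (Subgroup.mem_zpowers _)) (inv_mem (Subgroup.mem_zpowers _))) _) _
  refine ⟨k, ?_, ?_, ?_, fun u hu => ?_, fun i hi u hu hun hc => ?_, fun z hz' hz1 w hw hw1 => ?_⟩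
  · rw [hkG]; exact (stabilizer G a).pow_mem hh₀a _
  · rw [hkG]; exact (stabilizer G b).pow_mem hh₀b _
  · rw [hkG, orderOf_pow' _ (by positivity), hvo, Nat.gcd_eq_right (dvd_mul_right _ o),
      Nat.mul_div_cancel_left _ (by positivity)]
    exact Nat.odd_iff.2 (Nat.two_dvd_ne_zero.1 ho)
  · rw [hkG]; exact (Commute.pow_left (hh₀c u hu) _).eq
  · refine h.mem_cc_of_fix hu ((h.rangeRestrict_eq_one (g := ⟨u, hun⟩)).1
      (RankOne.Setup.kk_fpf hS (hkK i) hi ⟨⟨u, hun⟩, hu, rfl⟩ ?_) b (h.cc_le_right a b))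
    rw [← map_pow, ← map_mul, ← map_mul]
    exact congrArg _ (Subtype.ext hc)
  · have hII : ∀ x (hx : x ∈ h.ax a), x ≠ 1 → h.phi.rangeRestrict ⟨x, h.ax_le_nn hx⟩ ∈
        Cfsg.involutionsIn (stabilizer h.phi.range h.pa : Set h.phi.range) := fun x hx hx1 =>
      ⟨Subtype.ext (h.at_le a (h.ax_le a hx) : x • a = a), fun e => h.ne (h.ax_fixed hx hx1
        (h.rangeRestrict_eq_one.1 e b (h.cc_le_right a b))).symm, by
        rw [← map_mul, show (⟨x, h.ax_le_nn hx⟩ : h.nn) * ⟨x, h.ax_le_nn hx⟩ = 1 from Subtype.ext hx.2.1,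
          map_one]⟩
    obtain ⟨c, hc, hcs⟩ := RankOne.Setup.exists_conj_kk hS (hII z hz' hz1) (hII w hw hw1)
    rw [← hz] at hc
    obtain ⟨i, hi⟩ := hKK c⁻¹ (inv_mem hc)
    refine ⟨i, ?_⟩
    have hki : (k : G) ^ i • a = a := by rw [hkG, ← pow_mul]; exact (stabilizer G a).pow_mem hh₀a _
    have hconj : (k : G) ^ i * z * ((k : G) ^ i)⁻¹ ∈ h.ax a := by
      have := (h.conj_ax ((k : G) ^ i)).2 hz'
      rwa [hki] at this
    by_contra hne
    have hd : (k : G) ^ i * z * ((k : G) ^ i)⁻¹ * w⁻¹ ∈ h.ax a := mul_mem hconj (inv_mem hw)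
    refine h.ne (h.ax_fixed hd (fun e => hne (mul_inv_eq_one.1 e)) ?_).symm
    refine (h.rangeRestrict_eq_one (g := ⟨_, h.ax_le_nn hd⟩)).1 ?_ b (h.cc_le_right a b)
    rw [show (⟨(k : G) ^ i * z * ((k : G) ^ i)⁻¹ * w⁻¹, h.ax_le_nn hd⟩ : h.nn) =
      k ^ i * ⟨z, h.ax_le_nn hz'⟩ * (k ^ i)⁻¹ * ⟨w, h.ax_le_nn hw⟩⁻¹ from Subtype.ext (by simp)]
    simp only [map_mul, map_inv, map_pow, hi, inv_inv, hcs, mul_inv_cancel]

omit [IsSimpleGroup G] in
/-- An involution of `U` normalising `cc a b` moves `b` as some central involution does. -/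
theorem exists_ax_line {u : G} (hu : u ∈ U) (hu2 : u * u = 1) (hun : u ∈ h.nn) (hub : u • b ≠ b) :
    ∃ v ∈ h.ax a, v • b = u • b := by
  haveI := h.finite_omega
  obtain ⟨τ, hτ, hτa, -, -⟩ := h.exists_tau
  have hS := h.setup_line hτ hτa
  obtain ⟨z, hz, hz1⟩ := h.ax_ne_bot
  have mem : ∀ (x : G) (hx : x ∈ h.nn), x • a = a → x * x = 1 → x • b ≠ b → h.phi.rangeRestrict ⟨x, hx⟩ ∈
      Cfsg.involutionsIn (stabilizer h.phi.range h.pa : Set h.phi.range) := fun x hx hxa hx2 hxb =>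
    ⟨Subtype.ext hxa, fun e => hxb (h.rangeRestrict_eq_one.1 e b (h.cc_le_right a b)), by
      rw [← map_mul, show (⟨x, hx⟩ : h.nn) * ⟨x, hx⟩ = 1 from Subtype.ext hx2, map_one]⟩
  obtain ⟨c, hc, hcs⟩ := RankOne.Setup.exists_conj_kk hS
    (mem z (h.ax_le_nn hz) (h.at_le a (h.ax_le a hz)) hz.2.1 (fun e => h.ne (h.ax_fixed hz hz1 e).symm))
    (mem u hun (h.U_le hu) hu2 hub)
  obtain ⟨⟨g, hg⟩, rfl⟩ := h.phi.rangeRestrict_surjective c
  have hga : g⁻¹ • a = a := inv_smul_eq_iff.2 (congrArg Subtype.val hc.1.1).symm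
  refine ⟨g⁻¹ * z * g, ?_, ?_⟩
  · have := (h.conj_ax g⁻¹).2 hz
    rwa [hga, inv_inv] at this
  · rw [← map_inv, ← map_mul, ← map_mul] at hcs
    exact congrArg Subtype.val (congrArg (fun x : h.phi.range => x • h.pb) hcs)

end Hyp

end Cfsg.Agent.SplitBNRankOne
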