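import Cfsg.Agent.Lib.SplitBNRankOne.Invert
import Cfsg.Agent.S0111
/-!
# Two-point intersections are trivial

`Hyp.cc_eq_bot` : in a simple group `cc a b = ⊥`, by Thompson transfer of the would-be involution.
-/

set_option autoImplicit false
set_option linter.style.haveILetI false

namespace Cfsg.Agent.SplitBNRankOne

open MulAction Cfsg.Agent

universe u v

namespace Hyp

variable {G : Type u} {Ω : Type v} [Group G] [MulAction G Ω] [FaithfulSMul G Ω] [Finite G]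
  {a b : Ω} {U H : Subgroup G} (h : Hyp G Ω a b U H)
include h

omit [FaithfulSMul G Ω] in
/-- `U` has odd index. -/
theorem index_U_odd : ¬ 2 ∣ U.index := by
  haveI : Fact (Nat.Prime 2) := ⟨Nat.prime_two⟩
  rw [← Subgroup.relIndex_mul_index h.U_le]
  haveI := h.two
  haveI : IsPretransitive G Ω := isPretransitive_of_is_two_pretransitive
  rw [index_stabilizer_of_transitive]
  refine fun hd => (Nat.prime_two.dvd_mul.1 hd).elim ?_ (fun e => Nat.not_even_iff_odd.2 h.degree_odd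
    (even_iff_two_dvd.2 e))
  intro h2
  haveI hN : (U.subgroupOf (stabilizer G a)).Normal := ⟨fun x hx g => h.U_norm g g.2 x hx⟩
  rw [Subgroup.relIndex, Subgroup.index_eq_card] at h2
  obtain ⟨x, hx⟩ := exists_prime_orderOf_dvd_card' 2 h2
  obtain ⟨g, rfl⟩ := QuotientGroup.mk'_surjective (U.subgroupOf (stabilizer G a)) x
  have h1 : (QuotientGroup.mk' (U.subgroupOf (stabilizer G a)) g) ^ Nat.card H = 1 := by
    rw [← map_pow]
    exact (QuotientGroup.eq_one_iff _).2 (h.pow_mem_U g.2)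
  have h3 := orderOf_dvd_of_pow_eq_one h1
  rw [hx] at h3
  exact Nat.not_even_iff_odd.2 h.H_odd (even_iff_two_dvd.2 h3)

variable [IsSimpleGroup G] (hU2 : IsPGroup 2 U)
include hU2

/-- With an involution in `cc a b`: `m1` is `ww` and a class of `U`, and all squares are in `ww`. -/
theorem special {u : G} (hu : u ∈ h.cc a b) (hu2 : u * u = 1) (hu1 : u ≠ 1) :
    (∀ τ ∈ U, τ * τ ∈ h.ww) ∧ u ∉ h.ww := by
  classical
  obtain ⟨k, hka, hkb, ho, hkc, hk2, hktrans⟩ := h.exists_torus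
  obtain ⟨z₀, -, hz₀, -, hz₀1, -, -⟩ := h.exists_two_ax
  have huW : u ∉ h.ww := fun hw => hu1 (Subgroup.mem_bot.1 (h.ww_inf_cc hU2 ▸ (⟨hw, hu⟩ : u ∈ h.ww ⊓ h.cc a b)))
  refine ⟨?_, huW⟩
  have hC : ∀ y ∈ h.cc a b, y = 1 ∨ y = u := fun y hy => h.cc_eq_pair hU2 hu hu2 hu1 hy
  have hCcard : Nat.card (h.cc a b) = 2 := by
    refine Nat.card_eq_two_iff.2 ⟨1, ⟨u, hu⟩, fun e => hu1 (congrArg Subtype.val e).symm, ?_⟩
    ext y
    simp only [Set.mem_insert_iff, Set.mem_singleton_iff, Set.mem_univ, iff_true]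
    rcases hC y y.2 with e | e
    · exact Or.inl (Subtype.ext e)
    · exact Or.inr (Subtype.ext e)
  have hq := h.one_lt_ax hU2
  have hU := h.card_U hU2 hu hu2 hu1
  rw [hCcard] at hU
  obtain ⟨τ₀, hτ₀, hτ₀m, hτ₀n⟩ := h.exists_norm_m1 hU2 hu hu2 hu1
  have hkM : ∀ m ∈ h.m1, (k : G) * m * (k : G)⁻¹ ∈ h.m1 := by
    rintro _ ⟨w, hw, c, hc, rfl⟩
    refine ⟨(k : G) * w * (k : G)⁻¹, h.ww_conj hka hw, c, hc, ?_⟩
    calc (k : G) * (w * c) * (k : G)⁻¹ = (k : G) * w * (c * (k : G)⁻¹) := by group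
      _ = (k : G) * w * ((k : G)⁻¹ * c) := by rw [← (Commute.inv_left (hkc c hc)).eq]
      _ = _ := by group
  have hkn : (k : G) ∈ Subgroup.normalizer (h.m1 : Set G) := Subgroup.mem_normalizer_fintype hkM
  obtain ⟨N, hN⟩ : ∃ N, N = U ⊓ Subgroup.normalizer (h.m1 : Set G) := ⟨_, rfl⟩
  have hMN : h.m1 ≤ N := hN ▸ le_inf h.m1_le_U Subgroup.le_normalizer
  -- cosets of `m1` in `N`, one for each element of `ax a`
  choose idx hidx using fun (z : h.ax a) (hz : (z : G) ≠ 1) => hktrans z₀ hz₀ hz₀1 z z.2 hz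
  let rep : h.ax a → G := fun z => if hz : (z : G) = 1 then 1 else
    (k : G) ^ idx z hz * τ₀ * ((k : G) ^ idx z hz)⁻¹
  have hrepU : ∀ z, rep z ∈ U ∧ rep z ∈ Subgroup.normalizer (h.m1 : Set G) := fun z => by
    simp only [rep]
    split_ifs with hz
    · exact ⟨one_mem _, one_mem _⟩
    · exact ⟨h.U_norm _ ((stabilizer G a).pow_mem hka _) _ hτ₀,
        mul_mem (mul_mem (pow_mem hkn _) hτ₀n) (inv_mem (pow_mem hkn _))⟩
  have hkpow : ∀ n : ℕ, ∀ m ∈ h.m1, ((k : G) ^ n)⁻¹ * m * (k : G) ^ n ∈ h.m1 := fun n m hm =>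
    (Subgroup.mem_normalizer_iff''.1 (pow_mem hkn n) m).1 hm
  have key : ∀ {z z' : h.ax a}, (rep z)⁻¹ * rep z' ∈ h.m1 → z = z' := by
    have hτi : ∀ (j : ℕ) (e : G), e = (k : G) ^ j * τ₀ * ((k : G) ^ j)⁻¹ → e ∉ h.m1 := fun j e he hm => hτ₀m (by
      have := hkpow j _ hm
      rwa [he, show ((k : G) ^ j)⁻¹ * ((k : G) ^ j * τ₀ * ((k : G) ^ j)⁻¹) * (k : G) ^ j = τ₀ by group] at this)
    intro z z' hm
    simp only [rep] at hm
    split_ifs at hm with hz hz' hz'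
    · exact Subtype.ext (hz.trans hz'.symm)
    · rw [inv_one, one_mul] at hm; exact absurd hm (hτi _ _ rfl)
    · rw [mul_one] at hm; exact absurd (inv_mem_iff.1 hm) (hτi _ _ rfl)
    · -- two conjugates
      obtain ⟨i, hi⟩ : ∃ i, i = idx z hz := ⟨_, rfl⟩
      obtain ⟨j, hj⟩ : ∃ j, j = idx z' hz' := ⟨_, rfl⟩
      have hiz := hidx z hz
      have hjz := hidx z' hz'
      rw [← hi, ← hj] at hm
      rw [← hi] at hiz
      rw [← hj] at hjz
      have main : ∀ {i j : ℕ}, i ≤ j → ((k : G) ^ i * τ₀ * ((k : G) ^ i)⁻¹)⁻¹ * ((k : G) ^ j * τ₀ * ((k : G) ^ j)⁻¹) ∈ h.m1 →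
          (k : G) ^ i * z₀ * ((k : G) ^ i)⁻¹ = (k : G) ^ j * z₀ * ((k : G) ^ j)⁻¹ := by
        intro i j hij hm
        obtain ⟨d, rfl⟩ := Nat.exists_eq_add_of_le hij
        have h1 := hkpow i _ hm
        rw [show ((k : G) ^ i)⁻¹ * (((k : G) ^ i * τ₀ * ((k : G) ^ i)⁻¹)⁻¹ *
            ((k : G) ^ (i + d) * τ₀ * ((k : G) ^ (i + d))⁻¹)) * (k : G) ^ i =
          τ₀⁻¹ * ((k : G) ^ d * τ₀ * ((k : G) ^ d)⁻¹) by rw [pow_add]; group] at h1
        have hd : h.phi.rangeRestrict k ^ d = 1 := by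
          by_contra hd
          exact hτ₀m (h.fixed_coset hU2 hka ho hkc hk2 h.m1_le_U h.cc_le_m1 hkM hτ₀ hd h1)
        rw [← map_pow, h.rangeRestrict_eq_one] at hd
        have hkb : (k : G) ^ d • b = b := hd b (h.cc_le_right a b)
        have hzb : (k : G) ^ d • z₀ • b = z₀ • b := hd _ fun y hy => by
          rw [mem_stabilizer_iff, ← mul_smul, ← hz₀.2.2 y hy.1, mul_smul, show y • b = b from hy.2]
        have hcz : (k : G) ^ d * z₀ * ((k : G) ^ d)⁻¹ = z₀ := by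
          by_contra hne
          refine h.ne (h.ax_fixed (mul_mem (inv_mem hz₀) (h.ax_conj ((stabilizer G a).pow_mem hka d) hz₀))
            (fun e' => hne (inv_mul_eq_one.1 e').symm) ?_).symm
          rw [mul_smul, inv_smul_eq_iff, mul_smul, mul_smul,
            show ((k : G) ^ d)⁻¹ • b = b by rw [inv_smul_eq_iff, hkb], hzb]
        conv_lhs => rw [← hcz]
        rw [pow_add]; group
      refine Subtype.ext ?_
      rw [← hiz, ← hjz]
      rcases le_total i j with hij | hij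
      · exact main hij hm
      · refine (main hij ?_).symm
        have := inv_mem hm
        rwa [mul_inv_rev, inv_inv] at this
  -- so `m1` is normal and every coset is one of them
  have hinj : Function.Injective (fun p : h.ax a × h.m1 => (⟨rep p.1 * p.2.1, mul_mem (hrepU p.1).1 (h.m1_le_U p.2.2)⟩ : U)) := by
    rintro ⟨z, m⟩ ⟨z', m'⟩ e
    have e' : rep z * m.1 = rep z' * m'.1 := congrArg Subtype.val e
    obtain rfl : z = z' := key (by
      rw [show (rep z)⁻¹ * rep z' = m.1 * m'.1⁻¹ by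
        rw [inv_mul_eq_iff_eq_mul, ← mul_assoc, e', mul_inv_cancel_right]]
      exact mul_mem m.2 (inv_mem m'.2))
    rw [show m = m' from Subtype.ext (mul_left_cancel e')]
  have hsurj := ((Nat.bijective_iff_injective_and_card _).2 ⟨hinj, by
    rw [Nat.card_prod, h.card_m1 hU2 hu hu2 hu1, hU, hCcard]; ring⟩).2
  have hcos : ∀ v ∈ U, ∃ z m, m ∈ h.m1 ∧ v = rep z * m := fun v hv => by
    obtain ⟨⟨z, m⟩, e⟩ := hsurj ⟨v, hv⟩
    exact ⟨z, m, m.2, (congrArg Subtype.val e).symm⟩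
  have hnorm : U ≤ Subgroup.normalizer (h.m1 : Set G) := fun v hv => by
    obtain ⟨z, m, hm, rfl⟩ := hcos v hv
    exact mul_mem (hrepU z).2 (Subgroup.le_normalizer hm)
  have hm1 : ∀ m ∈ h.m1, m ∈ h.ww ∨ ∃ w ∈ h.ww, m = w * u := by
    rintro _ ⟨w, hw, c, hc, rfl⟩
    rcases hC c hc with rfl | rfl
    · exact Or.inl (by rwa [mul_one])
    · exact Or.inr ⟨w, hw, rfl⟩
  -- the class of `u`
  have hclass : ∀ w ∈ h.ww, ∃ v ∈ U, v * u * v⁻¹ = w * u := by
    let f : U → h.ww := fun v => ⟨(v : G) * u * (v : G)⁻¹ * u, by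
      rcases hm1 _ ((Subgroup.mem_normalizer_iff.1 (hnorm v.2) u).1 (h.cc_le_m1 hu)) with hw | ⟨w, hw, e⟩
      · exfalso
        refine huW ?_
        have := h.ww_conj (h.U_le (inv_mem v.2)) hw
        rwa [show (v : G)⁻¹ * ((v : G) * u * (v : G)⁻¹) * (v : G)⁻¹⁻¹ = u by group] at this
      · rw [e, mul_assoc, hu2, mul_one]; exact hw⟩
    have hfib : ∀ v v' : U, f v = f v' → ∃ p : h.ax a × h.cc a b, (v : G) = (v' : G) * (p.1.1 * p.2.1) := by
      intro v v' e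
      have e' := mul_right_cancel (congrArg Subtype.val e : (v : G) * u * (v : G)⁻¹ * u = (v' : G) * u * (v' : G)⁻¹ * u)
      obtain ⟨z, hz, c, hc, e2⟩ := h.comm_split hU2 hu hu2 hu1 (mul_mem (inv_mem v'.2) v.2)
        (by calc (v' : G)⁻¹ * v * u = (v' : G)⁻¹ * (v * u * (v : G)⁻¹) * v := by group
              _ = (v' : G)⁻¹ * (v' * u * (v' : G)⁻¹) * v := by rw [e']
              _ = _ := by group)
      exact ⟨⟨⟨z, hz⟩, ⟨c, hc⟩⟩, by rw [← e2, mul_inv_cancel_left]⟩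
    choose pr hpr using hfib
    let sec : Set.range f → U := fun r => r.2.choose
    have hsec : ∀ r : Set.range f, f (sec r) = r.1 := fun r => r.2.choose_spec
    have hle : Nat.card U ≤ Nat.card (Set.range f) * (Nat.card (h.ax a) * 2) := by
      rw [← hCcard, ← Nat.card_prod, ← Nat.card_prod]
      refine Nat.card_le_card_of_injective (fun v => (⟨f v, v, rfl⟩,
        pr v (sec ⟨f v, v, rfl⟩) (hsec ⟨f v, v, rfl⟩).symm)) fun v v' e => ?_
      obtain ⟨e1, e2⟩ := Prod.ext_iff.1 e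
      refine Subtype.ext ?_
      rw [hpr v _ (hsec ⟨f v, v, rfl⟩).symm, hpr v' _ (hsec ⟨f v', v', rfl⟩).symm]
      exact congrArg₂ (fun (x : U) (p : h.ax a × h.cc a b) => (x : G) * (p.1.1 * p.2.1)) (congrArg sec e1) e2
    have hfull : Set.range f = Set.univ := by
      refine Set.eq_of_subset_of_ncard_le (Set.subset_univ _) ?_
      rw [Set.ncard_univ, h.card_ww hU2 hu hu2 hu1, ← Nat.card_coe_set_eq]
      rw [hU] at hle
      exact Nat.le_of_mul_le_mul_right (c := Nat.card (h.ax a) * 2) (le_trans (le_of_eq (by ring)) hle)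
        (by omega)
    intro w hw
    obtain ⟨v, hv⟩ : (⟨w, hw⟩ : h.ww) ∈ Set.range f := hfull ▸ Set.mem_univ _
    exact ⟨v, v.2, by
      have e : (v : G) * u * (v : G)⁻¹ * u = w := congrArg Subtype.val hv
      rw [← e, mul_assoc _ u u, hu2, mul_one]⟩
  have hinW : ∀ τ ∈ h.m1, τ * τ ∈ h.ww := fun τ hτ => by
    rcases hm1 τ hτ with hw | ⟨w, hw, rfl⟩
    · exact mul_mem hw hw
    · rw [show w * u * (w * u) = w * (u * w * u) by group, h.inverts_ww hU2 hu hu2 hu1 hw, mul_inv_cancel]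
      exact one_mem _
  -- squares
  have hsq : ∀ τ ∈ U, τ * τ ∈ h.m1 := by
    set M := h.m1.subgroupOf U with hM
    haveI : M.Normal := ⟨fun m hm v => (Subgroup.mem_normalizer_iff.1 (hnorm v.2) m.1).1 hm⟩
    haveI : Fact (Nat.Prime 2) := ⟨Nat.prime_two⟩
    have hd : 2 ∣ Nat.card (U ⧸ M) := by
      obtain ⟨e, he⟩ := (hU2.to_quotient M).exists_card_eq
      rcases e with _ | e
      · exfalso
        rw [pow_zero, ← Subgroup.index_eq_card, Subgroup.index_eq_one, hM, Subgroup.subgroupOf_eq_top] at he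
        exact hτ₀m (he hτ₀)
      · rw [he]; exact dvd_pow_self 2 e.succ_ne_zero
    obtain ⟨x, hx⟩ := exists_prime_orderOf_dvd_card' 2 hd
    obtain ⟨⟨σ, hσ⟩, rfl⟩ := QuotientGroup.mk'_surjective M x
    have hσ2 : σ * σ ∈ h.m1 := by
      have e : QuotientGroup.mk' M (⟨σ, hσ⟩ * ⟨σ, hσ⟩) = 1 := by
        rw [map_mul, ← pow_two, ← hx, pow_orderOf_eq_one]
      have e' : (⟨σ, hσ⟩ : U) * ⟨σ, hσ⟩ ∈ M := (QuotientGroup.eq_one_iff _).1 e
      exact e'
    have hmm : ∀ g m, m ∈ h.m1 → g ∈ U → g * g ∈ h.m1 → g * m * (g * m) ∈ h.m1 := fun g m hm hg hg2 => by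
      rw [show g * m * (g * m) = g * g * (g⁻¹ * m * g) * m by group]
      exact mul_mem (mul_mem hg2 ((Subgroup.mem_normalizer_iff''.1 (hnorm hg) m).1 hm)) hm
    have hσm : σ ∉ h.m1 := fun hm => by
      have : QuotientGroup.mk' M ⟨σ, hσ⟩ = 1 := (QuotientGroup.eq_one_iff _).2 hm
      rw [this, orderOf_one] at hx
      exact absurd hx (by norm_num)
    obtain ⟨z, m, hm, e⟩ := hcos σ hσ
    have hz : (z : G) ≠ 1 := fun hz => hσm (by
      rw [e]; simp only [rep, dif_pos hz, one_mul]; exact hm)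
    have hr2 : rep z * rep z ∈ h.m1 := by
      have := hmm σ m⁻¹ (inv_mem hm) hσ hσ2
      rwa [e, mul_inv_cancel_right] at this
    have ht2 : τ₀ * τ₀ ∈ h.m1 := by
      simp only [rep, dif_neg hz] at hr2
      have := hkpow (idx z hz) _ hr2
      rwa [show ∀ g : G, g⁻¹ * (g * τ₀ * g⁻¹ * (g * τ₀ * g⁻¹)) * g = τ₀ * τ₀ from fun g => by group] at this
    intro τ hτ
    obtain ⟨z', m', hm', rfl⟩ := hcos τ hτ
    refine hmm _ _ hm' (hrepU z').1 ?_
    simp only [rep]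
    split_ifs
    · simp
    · rw [show ∀ g : G, g * τ₀ * g⁻¹ * (g * τ₀ * g⁻¹) = g * (τ₀ * τ₀) * g⁻¹ from fun g => by group]
      exact (Subgroup.mem_normalizer_iff.1 (pow_mem hkn _) _).1 ht2
  intro τ hτ
  rcases hm1 _ (hsq τ hτ) with hw | ⟨w, hw, e⟩
  · exact hw
  obtain ⟨v, hv, e'⟩ := hclass w hw
  have hτu : v⁻¹ * τ * v ∈ h.m1 := h.ax_cc_le_m1 hU2 hu hu2 hu1 (mul_mem (mul_mem (inv_mem hv) hτ) hv) (by
    have e2 : u = (v⁻¹ * τ * v) * (v⁻¹ * τ * v) := by
      rw [show v⁻¹ * τ * v * (v⁻¹ * τ * v) = v⁻¹ * (τ * τ) * v by group, e, ← e']; group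
    calc v⁻¹ * τ * v * u = (v⁻¹ * τ * v) * ((v⁻¹ * τ * v) * (v⁻¹ * τ * v)) := by rw [← e2]
      _ = _ := by rw [← mul_assoc, ← e2])
  exfalso
  refine huW ?_
  have h1 := hinW _ hτu
  rwa [show v⁻¹ * τ * v * (v⁻¹ * τ * v) = v⁻¹ * (τ * τ) * v by group, e, ← e',
    show v⁻¹ * (v * u * v⁻¹) * v = u by group] at h1

/-- Two points of `U`'s orbit have trivial intersection. -/
theorem cc_eq_bot : h.cc a b = ⊥ := by
  by_contra hne
  obtain ⟨u, hu, hu2, hu1⟩ := exists_invol hU2 h.cc_le_U hne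
  obtain ⟨hsq, huW⟩ := h.special hU2 hu hu2 hu1
  haveI : Fact (Nat.Prime 2) := ⟨Nat.prime_two⟩
  have hfin : ({M : Subgroup G | h.ww ≤ M ∧ M ≤ U ∧ u ∉ M}).Finite := Set.toFinite _
  obtain ⟨M, ⟨hWM, hMU, huM⟩, hmax⟩ := hfin.exists_maximal ⟨h.ww, le_rfl, h.ww_le_U, huW⟩
  have hconj : ∀ m ∈ M, ∀ v ∈ U, v * m * v⁻¹ ∈ M := fun m hm v hv => by
    have e : v * m * v⁻¹ = (v * m) * (v * m) * (m⁻¹ * ((v⁻¹ * v⁻¹))) := by group
    rw [e]
    exact mul_mem (hWM (hsq _ (mul_mem hv (hMU hm)))) (mul_mem (inv_mem hm) (hWM (hsq _ (inv_mem hv))))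
  have hcover : ∀ v ∈ U, v ∈ M ∨ v * u ∈ M := by
    intro v hv
    by_cases hvM : v ∈ M
    · exact Or.inl hvM
    right
    let M' : Subgroup G :=
      { carrier := {x | x ∈ U ∧ (x ∈ M ∨ x * v ∈ M)}
        one_mem' := ⟨one_mem _, Or.inl (one_mem _)⟩
        mul_mem' := fun {x y} hx hy => ⟨mul_mem hx.1 hy.1, by
          rcases hx.2 with hx' | hx' <;> rcases hy.2 with hy' | hy'
          · exact Or.inl (mul_mem hx' hy')
          · exact Or.inr (by rw [mul_assoc]; exact mul_mem hx' hy')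
          · refine Or.inr ?_
            have := mul_mem hx' (hconj _ hy' v⁻¹ (inv_mem hv))
            rwa [show x * v * (v⁻¹ * y * v⁻¹⁻¹) = x * y * v by group] at this
          · refine Or.inl ?_
            have := mul_mem (mul_mem hx' (hWM (hsq _ (inv_mem hv)))) (hconj _ hy' v hv)
            rwa [show x * v * (v⁻¹ * v⁻¹) * (v * (y * v) * v⁻¹) = x * y by group] at this⟩
        inv_mem' := fun {x} hx => ⟨inv_mem hx.1, by
          rcases hx.2 with hx' | hx'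
          · exact Or.inl (inv_mem hx')
          · refine Or.inr ?_
            have := mul_mem (hconj _ (inv_mem hx') v hv) (hWM (hsq v hv))
            rwa [show v * (x * v)⁻¹ * v⁻¹ * (v * v) = x⁻¹ * v by group] at this⟩ }
    have hMM' : M ≤ M' := fun x hx => ⟨hMU hx, Or.inl hx⟩
    have huM' : u ∈ M' := by
      by_contra huM'
      refine hvM (hmax ⟨hWM.trans hMM', fun x hx => hx.1, huM'⟩ hMM' ⟨hv, Or.inr ?_⟩)
      exact hWM (hsq v hv)
    have huv : u * v ∈ M := huM'.2.resolve_left huM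
    have := hconj _ huv v hv
    rwa [show v * (u * v) * v⁻¹ = v * u by group] at this
  obtain ⟨P, hP⟩ : ∃ P : Sylow 2 G, (P : Subgroup G) = U :=
    ⟨hU2.toSylow h.index_U_odd, rfl⟩
  have huU : u ∈ U := h.cc_le_U hu
  have hrel : M.relIndex (P : Subgroup G) = 2 := by
    rw [hP, Subgroup.relIndex_eq_two_iff]
    refine ⟨u, huU, fun v hv => ?_⟩
    by_cases hvM : v ∈ M
    · refine Or.inr ⟨hvM, fun h' => huM ?_⟩
      have := mul_mem (inv_mem hvM) h'
      rwa [inv_mul_cancel_left] at this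
    · exact Or.inl ⟨(hcover v hv).resolve_left hvM, hvM⟩
  rcases S0111.result P M (hP ▸ hMU) hrel u (orderOf_eq_prime (by rw [pow_two]; exact hu2) hu1) (hP ▸ huU)
    huM with ⟨K, hKn, hKi, huK⟩ | ⟨g, hg⟩
  · rcases hKn.eq_bot_or_eq_top with e | e
    · rw [e, Subgroup.index_bot] at hKi
      obtain ⟨z, w, hz, hw, hz1, hw1, hzw⟩ := h.exists_two_ax
      have : 2 < Nat.card G := by
        classical
        letI := Fintype.ofFinite G
        rw [Nat.card_eq_fintype_card, Fintype.two_lt_card_iff]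
        exact ⟨1, z, w, hz1.symm, hw1.symm, hzw⟩
      omega
    · rw [e, Subgroup.index_top] at hKi; exact absurd hKi (by norm_num)
  · obtain ⟨x, hx, hxa⟩ : ∃ x, (g * u * g⁻¹) • x = x ∧ x ≠ a := by
      by_cases hga : g • a = a
      · exact ⟨g • b, by rw [mul_smul, mul_smul, inv_smul_smul, hu.2],
          fun e => h.ne (smul_left_cancel g (hga.trans e.symm))⟩
      · exact ⟨g • a, by rw [mul_smul, mul_smul, inv_smul_smul, show u • a = a from h.cc_le_left a b hu], hga⟩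
    obtain ⟨w, hw, hwx⟩ := h.exists_U_smul hxa h.ne.symm
    have hc : w * (g * u * g⁻¹) * w⁻¹ ∈ h.cc a b := h.mem_cc_of_fix
      (mul_mem (mul_mem hw (hMU hg)) (inv_mem hw))
      (by rw [← hwx, mul_smul, mul_smul, inv_smul_smul, hx])
    rcases h.cc_eq_pair hU2 hu hu2 hu1 hc with e | e
    · exact hu1 (conj_eq_one_iff.1 (conj_eq_one_iff.1 e))
    · exact huM (e ▸ hconj _ hg w hw)

end Hyp

end Cfsg.Agent.SplitBNRankOne
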