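import Cfsg.Agent.Lib.RankOne.SetupTwoRank
/-!
# Two-point intersections of a transitive nilpotent normal subgroup

`Hyp G Ω a b U H` : `G` doubly transitive on `Ω` of odd degree, `G_a = U H`, `U` nilpotent normal in
`G_a`, `H` of odd order fixing `a` and `b`; `at' h x` is the copy of `U` at `x`, `cc h x y` its
stabiliser of `y`.

* `Hyp.cc_comm` : `cc x y = cc y x`
* `Hyp.cc_eq_of_fix` : so the fixed point sets of the `cc x y` are the lines of a linear space
-/

set_option autoImplicit false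
set_option linter.style.haveILetI false

namespace Cfsg.Agent.SplitBNRankOne

open MulAction Cfsg.Agent

universe u v

/-- The standing hypotheses. -/
structure Hyp (G : Type u) (Ω : Type v) [Group G] [MulAction G Ω] (a b : Ω) (U H : Subgroup G) :
    Prop where
  two : IsMultiplyPretransitive G Ω 2
  ne : a ≠ b
  U_le : U ≤ stabilizer G a
  U_norm : ∀ g ∈ stabilizer G a, ∀ u ∈ U, g * u * g⁻¹ ∈ U
  nil : Group.IsNilpotent U
  sup : U ⊔ H = stabilizer G a
  H_fix : ∀ k ∈ H, k • a = a ∧ k • b = b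
  H_odd : Odd (Nat.card H)
  degree_odd : Odd (Nat.card Ω)

namespace Hyp

variable {G : Type u} {Ω : Type v} [Group G] [MulAction G Ω] {a b : Ω} {U H : Subgroup G}

/-- The copy of `U` at `x`. -/
def at' (_ : Hyp G Ω a b U H) (x : Ω) : Subgroup G where
  carrier := {u | ∀ g : G, g • a = x → g⁻¹ * u * g ∈ U}
  one_mem' g _ := by simp
  mul_mem' := fun {u v} hu hv g hg => by
    simpa [mul_assoc] using U.mul_mem (hu g hg) (hv g hg)
  inv_mem' := fun {u} hu g hg => by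
    simpa [mul_assoc] using U.inv_mem (hu g hg)

/-- The elements of the copy of `U` at `x` fixing `y`. -/
def cc (h : Hyp G Ω a b U H) (x y : Ω) : Subgroup G := h.at' x ⊓ stabilizer G y

variable (h : Hyp G Ω a b U H)
include h

theorem exists_smul (x : Ω) : ∃ g : G, g • a = x := by
  haveI := h.two
  haveI : IsPretransitive G Ω := isPretransitive_of_is_two_pretransitive
  exact MulAction.exists_smul_eq G a x

theorem exists_pair {x y x' y' : Ω} (hxy : x ≠ y) (hxy' : x' ≠ y') :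
    ∃ g : G, g • x = x' ∧ g • y = y' :=
  is_two_pretransitive_iff.1 h.two hxy hxy'

theorem mem_at {x : Ω} {g : G} (hg : g • a = x) {u : G} : u ∈ h.at' x ↔ g⁻¹ * u * g ∈ U := by
  refine ⟨fun hu => hu g hg, fun hu g' hg' => ?_⟩
  have hs : g'⁻¹ * g ∈ stabilizer G a := by rw [mem_stabilizer_iff, mul_smul, hg, ← hg', inv_smul_smul]
  simpa [mul_assoc] using h.U_norm _ hs _ hu

theorem at_a : h.at' a = U := by
  ext u
  rw [h.mem_at (one_smul G a)]
  simp

theorem at_le (x : Ω) : h.at' x ≤ stabilizer G x := fun u hu => by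
  obtain ⟨g, rfl⟩ := h.exists_smul x
  have : g⁻¹ * u * g ∈ stabilizer G a := h.U_le ((h.mem_at rfl).1 hu)
  rw [mem_stabilizer_iff, mul_smul, mul_smul, inv_smul_eq_iff] at this
  exact this

theorem conj_at (g : G) {x : Ω} {u : G} : g * u * g⁻¹ ∈ h.at' (g • x) ↔ u ∈ h.at' x := by
  obtain ⟨k, rfl⟩ := h.exists_smul x
  rw [h.mem_at (g := g * k) (by rw [mul_smul]), h.mem_at rfl]
  simp [mul_assoc]

theorem conj_cc (g : G) {x y : Ω} {u : G} : g * u * g⁻¹ ∈ h.cc (g • x) (g • y) ↔ u ∈ h.cc x y := by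
  simp only [cc, Subgroup.mem_inf, h.conj_at, mem_stabilizer_iff, mul_smul, inv_smul_smul,
    smul_left_cancel_iff]

theorem cc_le_left (x y : Ω) : h.cc x y ≤ stabilizer G x := inf_le_left.trans (h.at_le x)

theorem cc_le_right (x y : Ω) : h.cc x y ≤ stabilizer G y := inf_le_right

/-- `U` is transitive on the points other than `a`. -/
theorem exists_U_smul {x y : Ω} (hx : x ≠ a) (hy : y ≠ a) : ∃ u ∈ U, u • x = y := by
  have key : ∀ {z : Ω}, z ≠ a → ∃ u ∈ U, u • b = z := by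
    intro z hz
    obtain ⟨g, hga, hgb⟩ := h.exists_pair h.ne hz.symm
    have hg : g ∈ stabilizer G a := hga
    have hle : H ≤ Subgroup.normalizer (U : Set G) := fun k hk => by
      have hka : k ∈ stabilizer G a := (h.H_fix k hk).1
      rw [Subgroup.mem_normalizer_iff]
      refine fun v => ⟨h.U_norm k hka v, fun hv => ?_⟩
      simpa [mul_assoc] using h.U_norm k⁻¹ (inv_mem hka) _ hv
    rw [← h.sup, ← SetLike.mem_coe, Subgroup.coe_mul_of_right_le_normalizer_left _ _ hle] at hg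
    obtain ⟨u, hu, k, hk, rfl⟩ := hg
    exact ⟨u, hu, by rwa [mul_smul, (h.H_fix k hk).2] at hgb⟩
  obtain ⟨u, hu, rfl⟩ := key hx
  obtain ⟨v, hv, rfl⟩ := key hy
  exact ⟨v * u⁻¹, U.mul_mem hv (U.inv_mem hu), by rw [mul_smul, inv_smul_smul]⟩

variable [FaithfulSMul G Ω]

/-- An element of the centre of `U` fixing a second point is trivial. -/
theorem center_semiregular {z : G} (hz : z ∈ U) (hc : ∀ u ∈ U, z * u = u * z) {x : Ω} (hx : x ≠ a)
    (hzx : z • x = x) : z = 1 :=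
  FaithfulSMul.eq_of_smul_eq_smul fun y : Ω => by
    rw [one_smul]
    by_cases hy : y = a
    · rw [hy]; exact h.U_le hz
    · obtain ⟨u, hu, rfl⟩ := h.exists_U_smul hx hy
      rw [← mul_smul, hc u hu, mul_smul, hzx]

variable [Finite G]

omit [FaithfulSMul G Ω] [Finite G] in
theorem nilpotent_at (x : Ω) : Group.IsNilpotent (h.at' x) := by
  obtain ⟨g, hg⟩ := h.exists_smul x
  haveI := h.nil
  have e : h.at' x = U.map (MulAut.conj g).toMonoidHom := by
    ext u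
    rw [h.mem_at hg, Subgroup.mem_map]
    constructor
    · exact fun hu => ⟨_, hu, by simp [mul_assoc]⟩
    · rintro ⟨v, hv, rfl⟩
      simpa [mul_assoc] using hv
  rw [e]
  exact Group.nilpotent_of_mulEquiv (U.equivMapOfInjective _ (MulAut.conj g).injective)

/-- The elements of `p`-power order in `cc x y`. -/
def ccp (p : ℕ) (x y : Ω) : Set G := {u | u ∈ h.cc x y ∧ ∃ k, orderOf u = p ^ k}

omit [FaithfulSMul G Ω] [Finite G] in
theorem ncard_ccp (p : ℕ) {x y x' y' : Ω} (hxy : x ≠ y) (hxy' : x' ≠ y') :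
    (h.ccp p x y).ncard = (h.ccp p x' y').ncard := by
  obtain ⟨g, rfl, rfl⟩ := h.exists_pair hxy hxy'
  refine Set.ncard_congr (fun u _ => g * u * g⁻¹) (fun u hu => ?_) (fun u v _ _ e => by simpa using e)
    (fun v hv => ⟨g⁻¹ * v * g, ?_, by group⟩)
  · exact ⟨(h.conj_cc g).2 hu.1, by rw [Involution.orderOf_conj]; exact hu.2⟩
  · have e : v = g * (g⁻¹ * v * g) * g⁻¹ := by group
    refine ⟨(h.conj_cc g).1 (e ▸ hv.1), ?_⟩
    have := hv.2
    rwa [e, Involution.orderOf_conj] at this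

theorem ccp_comm {p : ℕ} [Fact p.Prime] {x y : Ω} (hxy : x ≠ y) : h.ccp p x y = h.ccp p y x := by
  obtain ⟨g₀, hg₀⟩ := h.exists_smul b
  obtain ⟨P⟩ : Nonempty (Sylow p (h.cc b a)) := inferInstance
  haveI := h.nilpotent_at b
  haveI : Group.IsNilpotent (h.cc b a) :=
    Group.nilpotent_of_mulEquiv (Subgroup.subgroupOfEquivOfLe (inf_le_left : h.cc b a ≤ h.at' b))
  haveI hPn : (P : Subgroup (h.cc b a)).Normal :=
    Sylow.normal_of_normalizerCondition Group.normalizerCondition_of_isNilpotent P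
  haveI := Sylow.unique_of_normal P hPn
  set Y := (P : Subgroup (h.cc b a)).map (h.cc b a).subtype with hY
  have hYp : IsPGroup p Y := P.isPGroup'.map _
  have hmemY : ∀ u ∈ h.ccp p b a, u ∈ Y := by
    rintro u ⟨hu, k, hk⟩
    obtain ⟨S, hS⟩ := IsPGroup.exists_le_sylow (P := Subgroup.zpowers (⟨u, hu⟩ : h.cc b a))
      (IsPGroup.of_card (n := k) (by rw [Nat.card_zpowers, Subgroup.orderOf_mk, hk]))
    rw [Subsingleton.elim S P] at hS
    exact ⟨_, hS (Subgroup.mem_zpowers _), rfl⟩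
  suffices key : ∃ c, c ≠ b ∧ h.ccp p b c = h.ccp p c b by
    obtain ⟨c, hc, e⟩ := key
    obtain ⟨g, rfl, rfl⟩ := h.exists_pair hc.symm hxy
    ext u
    have e' : u = g * (g⁻¹ * u * g) * g⁻¹ := by group
    rw [e']
    simp only [ccp, Set.mem_ofPred_eq, h.conj_cc, Involution.orderOf_conj]
    simpa only [ccp, Set.mem_ofPred_eq, Involution.orderOf_conj] using Set.ext_iff.1 e (g⁻¹ * u * g)
  by_cases hY1 : ∀ u ∈ h.ccp p b a, u = 1
  · refine ⟨a, h.ne, ?_⟩
    have h1 : h.ccp p b a = {1} := Set.eq_singleton_iff_unique_mem.2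
      ⟨⟨one_mem _, 0, by simp⟩, hY1⟩
    have hcard := h.ncard_ccp p h.ne h.ne.symm
    rw [h1, Set.ncard_singleton, Set.ncard_eq_one] at hcard
    obtain ⟨w, hw⟩ := hcard
    have h1' : (1 : G) ∈ h.ccp p a b := ⟨one_mem _, 0, by simp⟩
    rw [hw, Set.mem_singleton_iff] at h1'
    rw [h1, hw, h1']
  push Not at hY1
  obtain ⟨u, hu, hu1⟩ := hY1
  have hdvd : p ∣ Nat.card U := by
    obtain ⟨k, hk⟩ := hu.2
    have hk0 : k ≠ 0 := fun e => hu1 (orderOf_eq_one_iff.1 (by rw [hk, e, pow_zero]))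
    have hU : g₀⁻¹ * u * g₀ ∈ U := (h.mem_at hg₀).1 hu.1.1
    have hd := Subgroup.orderOf_dvd_natCard U hU
    rw [show g₀⁻¹ * u * g₀ = g₀⁻¹ * u * g₀⁻¹⁻¹ by rw [inv_inv], Involution.orderOf_conj, hk] at hd
    exact (dvd_pow_self p hk0).trans hd
  -- a `p`-element of the centre of `U` centralising `Y`
  haveI := h.nil
  obtain ⟨S⟩ : Nonempty (Sylow p U) := inferInstance
  haveI hSn : (S : Subgroup U).Normal :=
    Sylow.normal_of_normalizerCondition Group.normalizerCondition_of_isNilpotent S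
  haveI := Sylow.unique_of_normal S hSn
  set Z := ((S : Subgroup U) ⊓ Subgroup.center U).map U.subtype with hZ
  have hZbot : Z ≠ ⊥ := fun e => RankOne.Setup.inf_center_ne_bot_of_nilpotent (S.ne_bot_of_dvd_card hdvd)
    (Subgroup.map_eq_bot_iff_of_injective _ U.subtype_injective |>.1 e)
  have hZp : IsPGroup p Z := (S.isPGroup'.to_le inf_le_left).map _
  have hnorm : ∀ g ∈ stabilizer G a, ∀ z ∈ Z, g * z * g⁻¹ ∈ Z := by
    rintro g hg _ ⟨⟨z, hzU⟩, ⟨hzS, hzc⟩, rfl⟩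
    refine ⟨⟨g * z * g⁻¹, h.U_norm g hg z hzU⟩, ⟨?_, ?_⟩, rfl⟩
    · obtain ⟨k, hk⟩ := S.isPGroup' ⟨_, hzS⟩
      have hzk : z ^ p ^ k = 1 := congrArg (fun w : (S : Subgroup U) => ((w : U) : G)) hk
      obtain ⟨S', hS'⟩ := IsPGroup.exists_le_sylow (P := Subgroup.zpowers (⟨g * z * g⁻¹, h.U_norm g hg z hzU⟩ : U))
        (by
          obtain ⟨i, -, hi⟩ := (Nat.dvd_prime_pow Fact.out).1 (orderOf_dvd_of_pow_eq_one (x := g * z * g⁻¹)
            (n := p ^ k) (by rw [conj_pow, hzk]; group))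
          exact IsPGroup.of_card (n := i) (by rw [Nat.card_zpowers, Subgroup.orderOf_mk, hi]))
      rw [Subsingleton.elim S' S] at hS'
      exact hS' (Subgroup.mem_zpowers _)
    · refine Subgroup.mem_center_iff.2 fun ⟨w, hw⟩ => Subtype.ext ?_
      have hw' : g⁻¹ * w * g ∈ U := by simpa using h.U_norm g⁻¹ (inv_mem hg) w hw
      have e : g⁻¹ * w * g * z = z * (g⁻¹ * w * g) :=
        congrArg Subtype.val (Subgroup.mem_center_iff.1 hzc ⟨_, hw'⟩)
      show w * (g * z * g⁻¹) = g * z * g⁻¹ * w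
      calc w * (g * z * g⁻¹) = g * (g⁻¹ * w * g * z) * g⁻¹ := by group
        _ = g * (z * (g⁻¹ * w * g)) * g⁻¹ := by rw [e]
        _ = _ := by group
  have hYle : Y ≤ Subgroup.normalizer (Z : Set G) := fun y hy => by
    have hya : y ∈ stabilizer G a := h.cc_le_right b a ((Subgroup.map_subtype_le _) hy)
    rw [Subgroup.mem_normalizer_iff]
    exact fun z => ⟨hnorm y hya z, fun hz => by simpa [mul_assoc] using hnorm y⁻¹ (inv_mem hya) _ hz⟩
  have hsup : IsPGroup p ↥(Y ⊔ Z : Subgroup G) := IsPGroup.to_sup_of_normal_right' hYp hZp hYle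
  haveI := hsup.isNilpotent
  haveI : (Z.subgroupOf (Y ⊔ Z)).Normal := Subgroup.normal_subgroupOf_of_le_normalizer
    (sup_le hYle Subgroup.le_normalizer)
  obtain ⟨⟨⟨ρ, hρs⟩, hρ⟩, hρ1⟩ := Subgroup.ne_bot_iff_exists_ne_one.1
    (RankOne.Setup.inf_center_ne_bot_of_nilpotent (N := Z.subgroupOf (Y ⊔ Z)) (fun e => hZbot (by
      rw [Subgroup.subgroupOf_eq_bot] at e
      exact e.eq_bot_of_le le_sup_right)))
  have hρZ : ρ ∈ Z := hρ.1
  have hρ1' : ρ ≠ 1 := fun e => hρ1 (Subtype.ext (Subtype.ext e))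
  obtain ⟨⟨ρ', hρU⟩, ⟨-, hρc⟩, he⟩ := hρZ
  simp only [Subgroup.coe_subtype] at he
  subst he
  have hρcomm : ∀ y ∈ Y, ρ' * y = y * ρ' := fun y hy =>
    (congrArg Subtype.val (Subgroup.mem_center_iff.1 hρ.2 ⟨y, Subgroup.mem_sup_left hy⟩)).symm
  have hρb : ρ' • b ≠ b := fun e => hρ1' (h.center_semiregular hρU
    (fun v hv => (congrArg Subtype.val (Subgroup.mem_center_iff.1 hρc ⟨v, hv⟩)).symm) h.ne.symm e)
  refine ⟨ρ' • b, hρb, ?_⟩
  have hsub1 : h.ccp p b a ⊆ h.ccp p b (ρ' • b) := fun u hu => ⟨⟨hu.1.1, by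
    show u • (ρ' • b) = ρ' • b
    rw [← mul_smul, ← hρcomm u (hmemY u hu), mul_smul,
      h.cc_le_left b a hu.1]⟩, hu.2⟩
  have hsub2 : h.ccp p b a ⊆ h.ccp p (ρ' • b) b := fun u hu => ⟨⟨by
    have e : u = ρ' * u * ρ'⁻¹ := by rw [hρcomm u (hmemY u hu), mul_inv_cancel_right]
    show u ∈ h.at' (ρ' • b)
    rw [e, h.conj_at]
    exact hu.1.1, h.cc_le_left b a hu.1⟩, hu.2⟩
  rw [← Set.eq_of_subset_of_ncard_le hsub1 (h.ncard_ccp p hρb.symm h.ne.symm).le,
    ← Set.eq_of_subset_of_ncard_le hsub2 (h.ncard_ccp p hρb h.ne.symm).le]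

theorem cc_le_cc {x y : Ω} (hxy : x ≠ y) : h.cc x y ≤ h.cc y x := by
  rw [← Subgroup.subgroupOf_eq_top, ← Subgroup.index_eq_one]
  by_contra hne
  obtain ⟨p, hp, hd⟩ := Nat.exists_prime_and_dvd hne
  haveI := Fact.mk hp
  obtain ⟨P⟩ : Nonempty (Sylow p (h.cc x y)) := inferInstance
  refine P.not_dvd_index (hd.trans (Subgroup.index_dvd_of_le fun u hu => ?_))
  obtain ⟨k, hk⟩ := P.isPGroup' ⟨u, hu⟩
  obtain ⟨i, -, hi⟩ := (Nat.dvd_prime_pow hp).1 (orderOf_dvd_of_pow_eq_one hk)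
  rw [Subgroup.orderOf_mk, ← Subgroup.orderOf_coe] at hi
  have : (u : G) ∈ h.ccp p x y := ⟨u.2, i, hi⟩
  rw [h.ccp_comm hxy] at this
  exact Subgroup.mem_subgroupOf.2 this.1

theorem cc_comm {x y : Ω} (hxy : x ≠ y) : h.cc x y = h.cc y x :=
  le_antisymm (h.cc_le_cc hxy) (h.cc_le_cc hxy.symm)

omit [FaithfulSMul G Ω] [Finite G] in
theorem card_cc {x y x' y' : Ω} (hxy : x ≠ y) (hxy' : x' ≠ y') :
    Nat.card (h.cc x y) = Nat.card (h.cc x' y') := by
  obtain ⟨g, rfl, rfl⟩ := h.exists_pair hxy hxy'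
  exact Nat.card_congr
    { toFun := fun u => ⟨g * u * g⁻¹, (h.conj_cc g).2 u.2⟩
      invFun := fun u => ⟨g⁻¹ * u * g, (h.conj_cc g).1 (by simp [mul_assoc, u.2])⟩
      left_inv := fun u => Subtype.ext (by simp [mul_assoc])
      right_inv := fun u => Subtype.ext (by simp [mul_assoc]) }

/-- Two points fixed by `cc x y` give the same subgroup. -/
theorem cc_eq_of_fix {x y x' y' : Ω} (hxy : x ≠ y) (hxy' : x' ≠ y')
    (hx : h.cc x y ≤ stabilizer G x') (hy : h.cc x y ≤ stabilizer G y') : h.cc x' y' = h.cc x y := by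
  have step : ∀ {z w w' : Ω}, z ≠ w → z ≠ w' → h.cc z w ≤ stabilizer G w' → h.cc z w' = h.cc z w :=
    fun hzw hzw' hle =>
      (Subgroup.eq_of_le_of_card_ge (le_inf inf_le_left hle) (h.card_cc hzw' hzw).le).symm
  by_cases e : x' = x
  · subst e
    exact step hxy hxy' hy
  have h1 : h.cc x x' = h.cc x y := step hxy (Ne.symm e) hx
  have h2 : h.cc x' x = h.cc x y := (h.cc_comm e).trans h1
  rw [step e hxy' (h2 ▸ hy), h2]

end Hyp

end Cfsg.Agent.SplitBNRankOne
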